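import Cfsg.Agent.Lib.Blocks.Brauer.SmallCenter.Graded
import Mathlib.LinearAlgebra.Matrix.Determinant.Basic
import Mathlib.LinearAlgebra.Matrix.ToLinearEquiv
import Mathlib.LinearAlgebra.Matrix.NonsingularInverse
import Mathlib.Algebra.Polynomial.Roots
import Mathlib.FieldTheory.IsAlgClosed.Basic

/-!
# Three generators without a surjective multiplication

If no left multiplication by an element of degree one is onto the second layer, the third layer is
at most a line.
-/

set_option autoImplicit false

namespace CfsgLib.SmallCenter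

variable {F V Q2 Q3 : Type*} [Field F] [AddCommGroup V] [Module F V] [AddCommGroup Q2]
  [Module F Q2] [AddCommGroup Q3] [Module F Q3]

/-- Independence persists along a line except at finitely many places. -/
theorem finite_dependent {Q : Type*} [AddCommGroup Q] [Module F Q] {n : ℕ} (a b : Fin n → Q)
    (ha : LinearIndependent F a) :
    {ε : F | ¬ LinearIndependent F fun i => a i + ε • b i}.Finite := by
  classical
  obtain ⟨φ, hφ⟩ : ∃ φ : Q →ₗ[F] (Fin n → F), φ ∘ₗ Fintype.linearCombination F a = LinearMap.id :=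
    LinearMap.exists_leftInverse_of_injective _
      (LinearMap.ker_eq_bot.2 ha.fintypeLinearCombination_injective)
  have hφa : ∀ i, φ (a i) = Pi.single i 1 := fun i => by
    have := LinearMap.congr_fun hφ (Pi.single i 1)
    simpa [Fintype.linearCombination_apply] using this
  set P : Matrix (Fin n) (Fin n) (Polynomial F) := Matrix.of fun j i =>
    Polynomial.C ((Pi.single i 1 : Fin n → F) j) + Polynomial.X * Polynomial.C (φ (b i) j) with hP
  have hev : ∀ ε : F, (P.det).eval ε =
      (Matrix.of fun j i => φ (a i + ε • b i) j).det := fun ε => by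
    rw [← Polynomial.coe_evalRingHom, RingHom.map_det]
    congr 1
    ext j i
    simp [hP, hφa]
    ring
  have hne : P.det ≠ 0 := by
    intro h0
    have h := hev 0
    rw [h0, Polynomial.eval_zero] at h
    have : (Matrix.of fun j i => φ (a i + (0 : F) • b i) j) = (1 : Matrix (Fin n) (Fin n) F) := by
      ext j i; simp [hφa, Matrix.one_apply, Pi.single_apply]
    rw [this, Matrix.det_one] at h
    exact zero_ne_one h
  refine (Polynomial.finite_setOfPred_isRoot hne).subset fun ε hε => ?_
  show P.det.eval ε = 0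
  by_contra hd
  rw [hev] at hd
  refine hε ?_
  refine LinearIndependent.of_comp φ ?_
  have := Matrix.linearIndependent_cols_of_det_ne_zero hd
  exact this

theorem exists_ne_zero_good [Infinite F] {S : Set F} (hS : S.Finite) : ∃ ε : F, ε ≠ 0 ∧ ε ∉ S := by
  obtain ⟨ε, hε⟩ := (hS.union (Set.finite_singleton 0)).exists_notMem
  exact ⟨ε, fun h => hε (Or.inr h), fun h => hε (Or.inl h)⟩

/-- At a point of maximal rank the kernel moves into the image. -/
theorem mem_span_of_max {W : Type*} [AddCommGroup W] [Module F W] [Infinite F]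
    (β : W →ₗ[F] V →ₗ[F] Q2) {r : ℕ} {t : W} {v : Fin r → V}
    (hli : LinearIndependent F fun i => β t (v i))
    (hmax : ∀ (s : W) (w : Fin (r + 1) → V), ¬ LinearIndependent F fun i => β s (w i))
    {k : V} (hk : β t k = 0) (s : W) :
    β s k ∈ Submodule.span F (Set.range fun i => β t (v i)) := by
  by_contra hs
  have hsn : LinearIndependent F (Fin.snoc (fun i => β t (v i)) (β s k)) :=
    linearIndependent_finSnoc.2 ⟨hli, hs⟩
  obtain ⟨ε, hε0, hε⟩ := exists_ne_zero_good
    (finite_dependent _ (Fin.snoc (fun i => β s (v i)) 0) hsn)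
  simp only [Set.mem_setOf_eq, not_not] at hε
  refine hmax (t + ε • s) (Fin.snoc v k) ?_
  have h2 := hε.units_smul (Fin.snoc (fun _ => 1) (Units.mk0 ε hε0))
  refine (linearIndependent_equiv' (Equiv.refl _) ?_).1 h2
  funext i
  induction i using Fin.lastCases with
  | last => simp [hk]
  | cast i => simp

namespace Gr

variable {g : Gr F V Q2 Q3} [Infinite F] [FiniteDimensional F V] [FiniteDimensional F Q2]

/-- All left multiplications have rank at most one. -/
theorem line_of_rank_one (hg : g.Comm) (hV : Module.finrank F V = 3) (hQ : 2 ≤ Module.finrank F Q2)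
    (hrk : ∀ (s : V) (w : Fin 2 → V), ¬ LinearIndependent F fun i => g.mu s (w i)) : g.Line := by
  obtain ⟨t, v, hv⟩ : ∃ t v, g.mu t v ≠ 0 := by
    by_contra h
    push Not at h
    have : ∀ m : Q2, m ∈ (⊥ : Submodule F Q2) := hg.mem fun a b => by simp [h]
    have htop : (⊤ : Submodule F Q2) = ⊥ := eq_bot_iff.2 fun m _ => this m
    rw [← finrank_top F Q2, htop, finrank_bot] at hQ
    omega
  have hli : LinearIndependent F fun _ : Fin 1 => g.mu t v :=
    linearIndependent_unique_iff.2 hv
  have hmem : ∀ k, g.mu t k = 0 → ∀ s, g.mu s k ∈ Submodule.span F {g.mu t v} := fun k hk s => by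
    have := mem_span_of_max g.mu (v := fun _ : Fin 1 => v) hli hrk hk s
    rwa [Set.range_const] at this
  have hrange : ∀ x, g.mu t x ∈ Submodule.span F {g.mu t v} := fun x => by
    by_contra hx
    refine hrk t ![v, x] ?_
    rw [show (fun i => g.mu t (![v, x] i)) = ![g.mu t v, g.mu t x] from funext fun i => by fin_cases i <;> rfl,
      LinearIndependent.pair_iff]
    intro a b hab
    rcases eq_or_ne b 0 with rfl | hb
    · simp only [zero_smul, add_zero, smul_eq_zero] at hab
      exact ⟨hab.resolve_right hv, rfl⟩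
    · exact absurd (Submodule.mem_span_singleton.2 ⟨-(b⁻¹ * a), by
        rw [neg_smul, mul_smul, neg_eq_iff_add_eq_zero,
          show g.mu t x = b⁻¹ • b • g.mu t x by rw [smul_smul, inv_mul_cancel₀ hb, one_smul],
          ← smul_add, hab, smul_zero]⟩) hx
  have hker : Module.finrank F (LinearMap.ker (g.mu t)) = 2 := by
    have h1 := LinearMap.finrank_range_add_finrank_ker (g.mu t)
    have h2 : LinearMap.range (g.mu t) = Submodule.span F {g.mu t v} :=
      le_antisymm (by rintro _ ⟨x, rfl⟩; exact hrange x)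
        ((Submodule.span_singleton_le_iff_mem _ _).2 ⟨v, rfl⟩)
    rw [h2, finrank_span_singleton hv, hV] at h1
    omega
  let b := Module.finBasisOfFinrankEq F (LinearMap.ker (g.mu t)) hker
  refine line_of_compression hg (p₁ := (b 0 : V)) (p₂ := (b 1 : V)) (z := v) (c := g.mu t v)
    (fun x => ?_) (hmem _ (b 0).2) (hmem _ (b 1).2)
  obtain ⟨r, hr⟩ := Submodule.mem_span_singleton.1 (hrange x)
  have hk : x - r • v ∈ LinearMap.ker (g.mu t) := by simp [hr]
  refine ⟨b.repr ⟨_, hk⟩ 0, b.repr ⟨_, hk⟩ 1, r, ?_⟩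
  have := congrArg Subtype.val (b.sum_repr ⟨_, hk⟩)
  simp only [Fin.sum_univ_two, Submodule.coe_add, Submodule.coe_smul] at this
  rw [this]
  abel

/-- No left multiplication is onto the second layer. -/
theorem line_of_not_surjective (hg : g.Comm) (hV : Module.finrank F V = 3)
    (hQ2 : 2 ≤ Module.finrank F Q2) (hQ3 : Module.finrank F Q2 ≤ 3)
    (hns : ∀ t, ¬ Function.Surjective (g.mu t)) : g.Line := by
  classical
  have hmaxn : ∀ (s : V) (w : Fin (Module.finrank F Q2) → V),
      ¬ LinearIndependent F fun i => g.mu s (w i) := by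
    intro s w h
    refine hns s (LinearMap.range_eq_top.1 (eq_top_iff.2 ?_))
    rw [← h.span_eq_top_of_card_eq_finrank' (by simp), Submodule.span_le]
    rintro _ ⟨i, rfl⟩
    exact ⟨w i, rfl⟩
  by_cases hrk : ∀ (s : V) (w : Fin 2 → V), ¬ LinearIndependent F fun i => g.mu s (w i)
  · exact line_of_rank_one hg hV hQ2 hrk
  push Not at hrk
  obtain ⟨t, w, hli⟩ := hrk
  rcases hQ2.eq_or_lt with h2 | h2
  · exact absurd hli (by have := hmaxn t; rw [← h2] at this; exact this w)
  have hQ : Module.finrank F Q2 = 3 := by omega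
  have hmax : ∀ (s : V) (u : Fin 3 → V), ¬ LinearIndependent F fun i => g.mu s (u i) := by
    intro s; have := hmaxn s; rw [hQ] at this; exact this
  set v₁ := w 0 with hv₁
  set v₂ := w 1 with hv₂
  set h₁ := g.mu t v₁ with hh₁
  set h₂ := g.mu t v₂ with hh₂
  have hind : ∀ a b : F, a • h₁ + b • h₂ = 0 → a = 0 ∧ b = 0 := fun a b hab => by
    have := Fintype.linearIndependent_iff.1 hli ![a, b] (by simpa [Fin.sum_univ_two] using hab)
    exact ⟨this 0, this 1⟩
  obtain ⟨k, hk, hk0⟩ : ∃ k, g.mu t k = 0 ∧ k ≠ 0 := by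
    by_contra h
    push Not at h
    have hinj : Function.Injective (g.mu t) := (injective_iff_map_eq_zero _).2 h
    exact hns t ((LinearMap.injective_iff_surjective_of_finrank_eq_finrank (hV.trans hQ.symm)).1 hinj)
  have hbli : LinearIndependent F ![k, v₁, v₂] := by
    rw [Fintype.linearIndependent_iff]
    intro c hc
    simp only [Fin.sum_univ_three, Matrix.cons_val_zero, Matrix.cons_val_one, Matrix.cons_val_two,
      Matrix.head_cons, Matrix.tail_cons] at hc
    have h := congrArg (g.mu t) hc
    simp only [map_add, map_smul, hk, smul_zero, zero_add, map_zero] at h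
    obtain ⟨h1, h2⟩ := hind _ _ h
    simp only [h1, h2, zero_smul, add_zero, smul_eq_zero] at hc
    intro i; fin_cases i
    · exact hc.resolve_right hk0
    · exact h1
    · exact h2
  have hsp : ∀ x : V, ∃ r s u : F, x = r • k + s • v₁ + u • v₂ := fun x => by
    let B := basisOfLinearIndependentOfCardEqFinrank hbli (by simp [hV])
    refine ⟨B.repr x 0, B.repr x 1, B.repr x 2, ?_⟩
    conv_lhs => rw [← B.sum_repr x]
    simp [B, Fin.sum_univ_three]
  set H := Submodule.span F (Set.range fun i => g.mu t (w i)) with hH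
  have hH' : H = Submodule.span F {h₁, h₂} := by
    rw [hH]; congr 1; ext m; simp [Fin.exists_fin_two, hh₁, hh₂, hv₁, hv₂, eq_comm]
  have hkH : ∀ s, g.mu s k ∈ H := fun s => mem_span_of_max g.mu hli hmax hk s
  set R := LinearMap.range (g.mu.flip k) with hR
  have hmemR : ∀ s, g.mu s k ∈ R := fun s => ⟨s, rfl⟩
  have hHdim : Module.finrank F H = 2 := by rw [hH, finrank_span_eq_card hli, Fintype.card_fin]
  by_cases hA : ∀ s, g.mu s k = 0
  · refine line_of_right_zero hg (q := k) (a := v₁) (b := v₂) hsp hA fun hc => ?_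
    have htop : ∀ m, m ∈ Submodule.span F ({g.mu k v₁, g.mu k v₂} : Set Q2) := by
      have hle : ∀ m ∈ LinearMap.range (g.mu k),
          m ∈ Submodule.span F ({g.mu k v₁, g.mu k v₂} : Set Q2) := by
        rintro _ ⟨x, rfl⟩
        obtain ⟨r, s, u, rfl⟩ := hsp x
        simp only [map_add, map_smul, hA, smul_zero, zero_add]
        exact add_mem (Submodule.smul_mem _ _ (Submodule.subset_span (by simp)))
          (Submodule.smul_mem _ _ (Submodule.subset_span (by simp)))
      intro m
      exact hg.mem_of_three hsp (by rw [hA, sub_zero]; exact Submodule.subset_span (by simp))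
        (by rw [hA, sub_zero]; exact Submodule.subset_span (by simp)) (hle _ hc) m
    have : Module.finrank F Q2 ≤ 2 := by
      rw [← finrank_top F Q2, ← eq_top_iff.2 fun m _ => htop m]
      refine (finrank_span_le_card _).trans ?_
      rw [Set.toFinset_insert, Set.toFinset_singleton]
      exact Finset.card_le_two
    omega
  push Not at hA
  obtain ⟨s₀, hs₀⟩ := hA
  by_cases hB : ∀ s, g.mu s k ∈ Submodule.span F {g.mu s₀ k}
  · -- the image of `k` is a line `F c`
    set c := g.mu s₀ k with hc
    obtain ⟨a, b, hab⟩ := Submodule.mem_span_pair.1 (hH' ▸ hkH s₀ : c ∈ Submodule.span F {h₁, h₂})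
    set p := a • v₁ + b • v₂ with hp
    have htp : g.mu t p = c := by simp [hp, ← hab, hh₁, hh₂]
    set C := Submodule.span F {c} with hC
    let β : V →ₗ[F] V →ₗ[F] Q2 ⧸ C := g.mu.compr₂ C.mkQ
    have hβ : ∀ x y, β x y = C.mkQ (g.mu x y) := fun x y => rfl
    have hβ1 : ∀ (s : V) (u : Fin 2 → V), ¬ LinearIndependent F fun i => β s (u i) := by
      intro s u hu
      obtain ⟨ε, hε0, hε⟩ := exists_ne_zero_good
        ((finite_dependent (fun i => β s (u i)) (fun i => β s₀ (u i)) hu).union
          (Set.Subsingleton.finite (s := {ε : F | g.mu (s + ε • s₀) k = 0}) (by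
            intro e he e' he'
            simp only [Set.mem_setOf_eq, map_add, map_smul, LinearMap.add_apply,
              LinearMap.smul_apply] at he he'
            have h0 : (e - e') • c = 0 := by
              rw [sub_smul, hc]
              exact sub_eq_zero.2 (add_left_cancel (he.trans he'.symm))
            exact sub_eq_zero.1 ((smul_eq_zero.1 h0).resolve_right hs₀))))
      simp only [Set.mem_union, Set.mem_setOf_eq, not_or, not_not] at hε
      refine hmax (s + ε • s₀) ![u 0, u 1, k] ?_
      have hq : LinearIndependent F fun i => C.mkQ (g.mu (s + ε • s₀) (u i)) := by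
        refine (linearIndependent_equiv' (Equiv.refl _) ?_).1 hε.1
        funext i; simp [hβ]
      rw [Fintype.linearIndependent_iff] at hq ⊢
      intro d hd
      simp only [Fin.sum_univ_three, Matrix.cons_val_zero, Matrix.cons_val_one, Matrix.cons_val_two,
        Matrix.head_cons, Matrix.tail_cons] at hd
      have hd' := congrArg C.mkQ hd
      rw [map_add, map_add, map_zero, LinearMap.map_smul C.mkQ (d 2),
        show C.mkQ (g.mu (s + ε • s₀) k) = 0 from (Submodule.Quotient.mk_eq_zero C).2 (hB _),
        smul_zero, add_zero] at hd'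
      have h01 := hq ![d 0, d 1] (by simpa [Fin.sum_univ_two] using hd')
      have e0 : d 0 = 0 := h01 0
      have e1 : d 1 = 0 := h01 1
      simp only [e0, e1, zero_smul, zero_add, smul_eq_zero] at hd
      intro i; fin_cases i
      · exact e0
      · exact e1
      · exact hd.resolve_right hε.2
    obtain ⟨v', hv'⟩ : ∃ v', β t v' ≠ 0 := by
      by_contra h
      push Not at h
      have hle : H ≤ C := Submodule.span_le.2 (by
        rintro _ ⟨i, rfl⟩; exact (Submodule.Quotient.mk_eq_zero C).1 (h (w i)))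
      have := Submodule.finrank_mono hle
      rw [hHdim, finrank_span_singleton hs₀] at this
      omega
    have hp0 : β t p = 0 := (Submodule.Quotient.mk_eq_zero C).2 (htp ▸ Submodule.mem_span_singleton_self c)
    have hline : ∀ s, β s p ∈ Submodule.span F {β t v'} := fun s => by
      have := mem_span_of_max β (v := fun _ : Fin 1 => v') (linearIndependent_unique_iff.2 hv') hβ1 hp0 s
      rwa [Set.range_const] at this
    by_cases hsp0 : ∀ s, β s p = 0
    · -- the plane spanned by `k` and `p` is compressed into `F c`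
      have hab0 : a ≠ 0 ∨ b ≠ 0 := by
        by_contra h; push Not at h; exact hs₀ (hab.symm.trans (by simp [h.1, h.2]))
      have hP : ∀ s, g.mu s p ∈ C := fun s => (Submodule.Quotient.mk_eq_zero C).1 (hsp0 s)
      rcases hab0 with ha | hb
      · refine line_of_compression hg (p₁ := k) (p₂ := p) (z := v₂) (c := c) (fun x => ?_) hB hP
        obtain ⟨r, s, u, rfl⟩ := hsp x
        refine ⟨r, s * a⁻¹, u - s * a⁻¹ * b, ?_⟩
        simp only [hp, smul_add, smul_smul, sub_smul, mul_assoc, inv_mul_cancel₀ ha, mul_one]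
        abel
      · refine line_of_compression hg (p₁ := k) (p₂ := p) (z := v₁) (c := c) (fun x => ?_) hB hP
        obtain ⟨r, s, u, rfl⟩ := hsp x
        refine ⟨r, u * b⁻¹, s - u * b⁻¹ * a, ?_⟩
        simp only [hp, smul_add, smul_smul, sub_smul, mul_assoc, inv_mul_cancel₀ hb, mul_one]
        abel
    · exfalso
      push Not at hsp0
      obtain ⟨s₁, hs₁⟩ := hsp0
      set U := Submodule.span F {β t v'} with hU
      have himg : ∀ s, β s p ≠ 0 → ∀ x, β s x ∈ U := by
        intro s hs x
        by_contra hx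
        refine hβ1 s ![p, x] ?_
        rw [show (fun i => β s (![p, x] i)) = ![β s p, β s x] from funext fun i => by fin_cases i <;> rfl,
          LinearIndependent.pair_iff]
        intro d e hde
        rcases eq_or_ne e 0 with rfl | he
        · simp only [zero_smul, add_zero, smul_eq_zero] at hde
          exact ⟨hde.resolve_right hs, rfl⟩
        · refine absurd ?_ hx
          rw [← U.smul_mem_iff he, show e • β s x = -(d • β s p) from
            eq_neg_of_add_eq_zero_right hde]
          exact neg_mem (U.smul_mem _ (hline s))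
      have hall : ∀ s x, β s x ∈ U := by
        intro s x
        by_cases hs : β s p = 0
        · have := sub_mem (himg (s + s₁) (by simpa [hs] using hs₁) x) (himg s₁ hs₁ x)
          simpa using this
        · exact himg s hs x
      have htop : ∀ m, C.mkQ m ∈ U := fun m => by
        have := hg.mem (S := U.comap C.mkQ) (fun x y => sub_mem (hall x y) (hall y x)) m
        exact this
      have hle : (⊤ : Submodule F (Q2 ⧸ C)) ≤ U := fun m _ => by
        obtain ⟨m, rfl⟩ := C.mkQ_surjective m; exact htop m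
      have h := Submodule.finrank_mono hle
      rw [finrank_top, hU, finrank_span_singleton hv'] at h
      have h' := Submodule.finrank_quotient_add_finrank C
      rw [hC, finrank_span_singleton hs₀, hQ] at h'
      rw [hC] at h
      omega
  -- `k` maps onto the image of `t`
  push Not at hB
  obtain ⟨s₁, hs₁⟩ := hB
  have hRH : R = H := by
    have hle : R ≤ H := by rintro _ ⟨s, rfl⟩; exact hkH s
    refine Submodule.eq_of_le_of_finrank_le hle ?_
    rw [hHdim]
    have hlt : Submodule.span F {g.mu s₀ k} < R := by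
      refine lt_of_le_of_ne ((Submodule.span_singleton_le_iff_mem _ _).2 (hmemR _)) fun e => hs₁ ?_
      exact e ▸ hmemR s₁
    have := Submodule.finrank_lt_finrank_of_lt hlt
    rw [finrank_span_singleton hs₀] at this
    omega
  obtain ⟨e₁, he₁⟩ : ∃ e, g.mu e k = h₁ := by
    have : h₁ ∈ R := hRH ▸ hH' ▸ Submodule.subset_span (by simp)
    exact this
  obtain ⟨e₂, he₂⟩ : ∃ e, g.mu e k = h₂ := by
    have : h₂ ∈ R := hRH ▸ hH' ▸ Submodule.subset_span (by simp)
    exact this
  have ht0 : t ≠ 0 := fun h => by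
    have := hind 1 0 (by simp [hh₁, h])
    exact one_ne_zero this.1
  have heli : LinearIndependent F ![t, e₁, e₂] := by
    rw [Fintype.linearIndependent_iff]
    intro c hc
    simp only [Fin.sum_univ_three, Matrix.cons_val_zero, Matrix.cons_val_one, Matrix.cons_val_two,
      Matrix.head_cons, Matrix.tail_cons] at hc
    have h := congrArg (fun x => g.mu x k) hc
    simp only [map_add, map_smul, LinearMap.add_apply, LinearMap.smul_apply, hk, he₁, he₂,
      smul_zero, zero_add, map_zero, LinearMap.zero_apply] at h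
    obtain ⟨h1, h2⟩ := hind _ _ h
    simp only [h1, h2, zero_smul, add_zero, smul_eq_zero] at hc
    intro i; fin_cases i
    · exact hc.resolve_right ht0
    · exact h1
    · exact h2
  let E := basisOfLinearIndependentOfCardEqFinrank heli (by simp [hV])
  have hE : ∀ i, E i = ![t, e₁, e₂] i := fun i =>
    congrFun (coe_basisOfLinearIndependentOfCardEqFinrank heli (by simp [hV])) i
  -- coordinates in the second layer
  obtain ⟨h₃, hh₃⟩ : ∃ m, m ∉ H := by
    by_contra h
    push Not at h
    have : (⊤ : Submodule F Q2) ≤ H := fun m _ => h m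
    have := Submodule.finrank_mono this
    rw [finrank_top, hQ, hHdim] at this
    omega
  have hqli : LinearIndependent F ![h₁, h₂, h₃] := by
    rw [Fintype.linearIndependent_iff]
    intro c hc
    simp only [Fin.sum_univ_three, Matrix.cons_val_zero, Matrix.cons_val_one, Matrix.cons_val_two,
      Matrix.head_cons, Matrix.tail_cons] at hc
    have h2 : c 2 = 0 := by
      by_contra h2
      refine hh₃ ((H.smul_mem_iff h2).1 ?_)
      rw [eq_neg_of_add_eq_zero_right hc, hH']
      exact neg_mem (Submodule.mem_span_pair.2 ⟨_, _, rfl⟩)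
    rw [h2, zero_smul, add_zero] at hc
    obtain ⟨h0, h1⟩ := hind _ _ hc
    intro i; fin_cases i
    · exact h0
    · exact h1
    · exact h2
  let Bq := basisOfLinearIndependentOfCardEqFinrank hqli (by simp [hQ])
  have hBq : ∀ i, Bq i = ![h₁, h₂, h₃] i := fun i =>
    congrFun (coe_basisOfLinearIndependentOfCardEqFinrank hqli (by simp [hQ])) i
  let φ : Fin 3 → Q2 →ₗ[F] F := fun i => Bq.coord i
  have hφ : ∀ i j, φ i (![h₁, h₂, h₃] j) = if j = i then 1 else 0 := fun i j => by
    rw [← hBq, Module.Basis.coord_apply, Bq.repr_self, Finsupp.single_apply]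
  have hφ01 : φ 0 h₁ = 1 ∧ φ 1 h₁ = 0 ∧ φ 2 h₁ = 0 ∧ φ 0 h₂ = 0 ∧ φ 1 h₂ = 1 ∧ φ 2 h₂ = 0 := by
    refine ⟨?_, ?_, ?_, ?_, ?_, ?_⟩
    · simpa using hφ 0 0
    · simpa using hφ 1 0
    · simpa using hφ 2 0
    · simpa using hφ 0 1
    · simpa using hφ 1 1
    · simpa using hφ 2 1
  obtain ⟨f01, f11, f21, f02, f12, f22⟩ := hφ01
  have hexp : ∀ m, m = φ 0 m • h₁ + φ 1 m • h₂ + φ 2 m • h₃ := fun m => by
    conv_lhs => rw [← Bq.sum_repr m]
    simp [φ, hBq, Fin.sum_univ_three]
  have hdet : ∀ ε a b : F,
      a * ((φ 1) (g.mu (a • e₁ + b • e₂) v₂) + ε) * (φ 2) (g.mu (a • e₁ + b • e₂) v₁) -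
      a * (φ 1) (g.mu (a • e₁ + b • e₂) v₁) * (φ 2) (g.mu (a • e₁ + b • e₂) v₂) +
      b * ((φ 0) (g.mu (a • e₁ + b • e₂) v₁) + ε) * (φ 2) (g.mu (a • e₁ + b • e₂) v₂) -
      b * (φ 0) (g.mu (a • e₁ + b • e₂) v₂) * (φ 2) (g.mu (a • e₁ + b • e₂) v₁) = 0 := by
    intro ε a b
    set σ := a • e₁ + b • e₂ with hσ
    let M : Matrix (Fin 3) (Fin 3) F :=
      Matrix.of fun i j => φ i (g.mu (ε • t + σ) (![k, v₁, v₂] j))
    have hM : M.det = 0 := by
      rw [← Matrix.exists_mulVec_eq_zero_iff]
      by_contra h
      push Not at h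
      refine hmax (ε • t + σ) ![k, v₁, v₂] (Fintype.linearIndependent_iff.2 fun d hd => ?_)
      by_contra hd0
      push Not at hd0
      obtain ⟨i, hi⟩ := hd0
      refine h d (fun e => hi (congrFun e i)) (funext fun l => ?_)
      have := congrArg (φ l) hd
      simp only [map_sum, map_smul, smul_eq_mul, map_zero] at this
      simp only [Matrix.mulVec, dotProduct, M, Matrix.of_apply, Pi.zero_apply]
      rw [← this]
      exact Finset.sum_congr rfl fun j _ => mul_comm _ _
    rw [Matrix.det_fin_three] at hM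
    simp [M, hσ, hk, he₁, he₂, ← hh₁, ← hh₂, f01, f11, f21, f02, f12, f22] at hM ⊢
    linear_combination -hM
  simp only [map_add, map_smul, LinearMap.add_apply, LinearMap.smul_apply, smul_eq_mul] at hdet
  set m11 := φ 2 (g.mu e₁ v₁)
  set m12 := φ 2 (g.mu e₁ v₂)
  set m21 := φ 2 (g.mu e₂ v₁)
  set m22 := φ 2 (g.mu e₂ v₂)
  set n110 := φ 0 (g.mu e₁ v₁)
  set n120 := φ 0 (g.mu e₁ v₂)
  set n210 := φ 0 (g.mu e₂ v₁)
  set n220 := φ 0 (g.mu e₂ v₂)
  set n111 := φ 1 (g.mu e₁ v₁)
  set n121 := φ 1 (g.mu e₁ v₂)
  set n211 := φ 1 (g.mu e₂ v₁)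
  set n221 := φ 1 (g.mu e₂ v₂)
  have hm11 : m11 = 0 := by linear_combination hdet 1 1 0 - hdet 0 1 0
  have hm22 : m22 = 0 := by linear_combination hdet 1 0 1 - hdet 0 0 1
  have hm21 : m21 = -m12 := by linear_combination hdet 1 1 1 - hdet 0 1 1 - hm11 - hm22
  have hμ : m12 ≠ 0 := by
    intro h0
    have hm : ∀ x y, φ 2 (g.mu x y) = 0 := by
      intro x y
      have hx := E.sum_repr x
      obtain ⟨r, s, u, rfl⟩ := hsp y
      rw [← hx]
      simp only [Fin.sum_univ_three, hE, Matrix.cons_val_zero, Matrix.cons_val_one, Matrix.cons_val_two,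
        Matrix.head_cons, Matrix.tail_cons, map_add, map_smul, LinearMap.add_apply,
        LinearMap.smul_apply, hk, he₁, he₂, ← hh₁, ← hh₂, map_zero, smul_eq_mul, f21, f22]
      simp [m11, m12, m21, m22] at hm11 hm22 hm21 h0
      simp [hm11, hm22, hm21, h0]
    have h := hg (φ 2) fun x y => by rw [hm, hm]
    have := hφ 2 2
    simp [h] at this
  have hn111 : n111 = 0 := by
    have h := hdet 0 1 0
    rw [hm11] at h
    simp at h
    exact h.resolve_right hμ
  have hn220 : n220 = 0 := by
    have h := hdet 0 0 1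
    rw [hm22, hm21] at h
    simp at h
    exact h.resolve_right hμ
  set K₁ := n211 + n121 - n110
  set K₂ := n221 - n210 - n120
  have hcub : ∀ a b : F, a * b * (a * K₁ + b * K₂) = 0 := by
    intro a b
    refine mul_left_cancel₀ hμ ?_
    rw [mul_zero]
    have h := hdet 0 a b
    rw [hm11, hm22, hm21, hn111, hn220] at h
    linear_combination -h
  obtain ⟨c, hc0, hc1⟩ := exists_ne_zero_good (Set.finite_singleton (1 : F))
  have e11 : K₁ + K₂ = 0 := by linear_combination hcub 1 1
  have e1c : K₁ + c * K₂ = 0 := by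
    refine mul_left_cancel₀ hc0 ?_
    linear_combination hcub 1 c
  have hK₂ : K₂ = 0 := by
    refine (mul_eq_zero.1 (?_ : (c - 1) * K₂ = 0)).resolve_left (sub_ne_zero.2 fun e => hc1 e)
    linear_combination e1c - e11
  have hK₁ : K₁ = 0 := by linear_combination e11 - hK₂
  have q11 : g.mu e₁ v₁ = n110 • h₁ := by
    rw [hexp (g.mu e₁ v₁)]; simp [n110, n111, m11] at hn111 hm11 ⊢; simp [hn111, hm11]
  have q22 : g.mu e₂ v₂ = n221 • h₂ := by
    rw [hexp (g.mu e₂ v₂)]; simp [n220, n221, m22] at hn220 hm22 ⊢; simp [hn220, hm22]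
  have q12 : g.mu e₁ v₂ + g.mu e₂ v₁ = n221 • h₁ + n110 • h₂ := by
    rw [hexp (g.mu e₁ v₂ + g.mu e₂ v₁)]
    have i0 : φ 0 (g.mu e₁ v₂ + g.mu e₂ v₁) = n221 := by
      rw [map_add]; show n120 + n210 = n221; linear_combination -hK₂
    have i1 : φ 1 (g.mu e₁ v₂ + g.mu e₂ v₁) = n110 := by
      rw [map_add]; show n121 + n211 = n110; linear_combination hK₁
    have i2 : φ 2 (g.mu e₁ v₂ + g.mu e₂ v₁) = 0 := by
      rw [map_add]; show m12 + m21 = 0; linear_combination hm21
    rw [i0, i1, i2, zero_smul, add_zero]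
  let κ : V →ₗ[F] V := E.constr F ![-k, v₁ - n110 • k, v₂ - n221 • k]
  have κt : κ t = -k := by
    have := E.constr_basis F ![-k, v₁ - n110 • k, v₂ - n221 • k] 0
    simpa [κ, hE] using this
  have κ1 : κ e₁ = v₁ - n110 • k := by
    have := E.constr_basis F ![-k, v₁ - n110 • k, v₂ - n221 • k] 1
    simpa [κ, hE] using this
  have κ2 : κ e₂ = v₂ - n221 • k := by
    have := E.constr_basis F ![-k, v₁ - n110 • k, v₂ - n221 • k] 2
    simpa [κ, hE] using this
  refine line_of_skew hg E (fun v => E.span_eq ▸ Submodule.mem_top) κ (fun y => ?_) fun s => ?_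
  · obtain ⟨r, u, w', rfl⟩ := hsp y
    refine ⟨(-r - u * n110 - w' * n221) • t + u • e₁ + w' • e₂, ?_⟩
    simp only [map_add, map_smul, κt, κ1, κ2]
    module
  · have hs := E.sum_repr s
    simp only [Fin.sum_univ_three, hE, Matrix.cons_val_zero, Matrix.cons_val_one, Matrix.cons_val_two,
      Matrix.head_cons, Matrix.tail_cons] at hs
    rw [← hs]
    simp only [map_add, map_sub, map_neg, map_smul, κt, κ1, κ2, LinearMap.add_apply,
      LinearMap.smul_apply, hk, he₁, he₂, q11, q22, ← hh₁, ← hh₂]
    rw [show g.mu e₂ v₁ = n221 • h₁ + n110 • h₂ - g.mu e₁ v₂ from eq_sub_of_add_eq' q12]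
    module

/-- Either the third layer is a line or some element multiplies onto the second layer from both
sides. -/
theorem line_or_surjective (hg : g.Comm) (hV : Module.finrank F V = 3)
    (hQ2 : 2 ≤ Module.finrank F Q2) (hQ3 : Module.finrank F Q2 ≤ 3) :
    g.Line ∨ ∃ t, Function.Surjective (g.mu t) ∧ Function.Surjective (g.mu.flip t) := by
  by_cases hl : ∀ t, ¬ Function.Surjective (g.mu t)
  · exact Or.inl (line_of_not_surjective hg hV hQ2 hQ3 hl)
  by_cases hr : ∀ t, ¬ Function.Surjective (g.mu.flip t)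
  · exact Or.inl (line_of_op hg (line_of_not_surjective (g := g.op) (g.op_comm hg) hV hQ2 hQ3 hr))
  push Not at hl hr
  obtain ⟨t, ht⟩ := hl
  obtain ⟨u, hu⟩ := hr
  right
  let b := Module.finBasis F Q2
  choose v hv using fun i => ht (b i)
  choose w hw using fun i => hu (b i)
  have h1 : LinearIndependent F fun i => g.mu t (v i) := by simpa [hv] using b.linearIndependent
  have h2 : LinearIndependent F fun i => g.mu.flip u (w i) := by simpa [hw] using b.linearIndependent
  obtain ⟨ε, hε0, hε⟩ := exists_ne_zero_good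
    ((finite_dependent _ (fun i => g.mu u (v i)) h1).union
      ((finite_dependent _ (fun i => g.mu.flip t (w i)) h2).image fun δ => δ⁻¹))
  simp only [Set.mem_union, Set.mem_image, Set.mem_setOf_eq, not_or, not_not, not_exists, not_and] at hε
  obtain ⟨hεl, hεr⟩ := hε
  have hεr' : LinearIndependent F fun i => g.mu.flip u (w i) + ε⁻¹ • g.mu.flip t (w i) := by
    by_contra h
    exact hεr ε⁻¹ h (inv_inv ε)
  have surj : ∀ (f : V →ₗ[F] Q2) (x : Fin (Module.finrank F Q2) → V),
      LinearIndependent F (fun i => f (x i)) → Function.Surjective f := fun f x h => by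
    refine LinearMap.range_eq_top.1 (eq_top_iff.2 ?_)
    rw [← h.span_eq_top_of_card_eq_finrank' (by simp), Submodule.span_le]
    rintro _ ⟨i, rfl⟩
    exact ⟨x i, rfl⟩
  refine ⟨t + ε • u, surj _ v ?_, surj _ w ?_⟩
  · simpa using hεl
  · have h := hεr'.units_smul (fun _ => Units.mk0 ε hε0)
    refine (linearIndependent_equiv' (Equiv.refl _) ?_).1 h
    funext i
    simp [smul_add, smul_smul, hε0, add_comm]

end Gr

end CfsgLib.SmallCenter
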