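import Cfsg.Agent.Lib.Blocks.Brauer.SmallCenter.Graded
import Mathlib.LinearAlgebra.Dimension.RankNullity
import Mathlib.FieldTheory.IsAlgClosed.Basic

/-!
# The first layers when an element multiplies onto the second layer

With three generators and a second layer of dimension three the algebra would be that of a
triangle, whose third layer carries a cyclic functional.  With two generators both squares may be
taken in the third power of the radical.
-/

set_option autoImplicit false

namespace CfsgLib.SmallCenter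

variable {F V Q2 Q3 : Type*} [Field F] [AddCommGroup V] [Module F V] [AddCommGroup Q2]
  [Module F Q2] [AddCommGroup Q3] [Module F Q3]

theorem exists_two_more [FiniteDimensional F V] (hV : Module.finrank F V = 3) {q : V} (hq : q ≠ 0) :
    ∃ a b : V, ∀ v : V, ∃ r s t : F, v = r • q + s • a + t • b := by
  set S := Submodule.span F {q}
  have h : Module.finrank F (V ⧸ S) = 2 := by
    have := S.finrank_quotient_add_finrank
    rw [finrank_span_singleton hq, hV] at this
    omega
  let b := Module.finBasisOfFinrankEq F (V ⧸ S) h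
  obtain ⟨x, hx⟩ := S.mkQ_surjective (b 0)
  obtain ⟨y, hy⟩ := S.mkQ_surjective (b 1)
  refine ⟨x, y, fun v => ?_⟩
  have hv : S.mkQ (v - b.repr (S.mkQ v) 0 • x - b.repr (S.mkQ v) 1 • y) = 0 := by
    simp only [map_sub, map_smul, hx, hy]
    have := b.sum_repr (S.mkQ v)
    rw [Fin.sum_univ_two] at this
    rw [sub_sub, this, sub_self]
  obtain ⟨r, hr⟩ := Submodule.mem_span_singleton.1 ((Submodule.Quotient.mk_eq_zero S).1 hv)
  exact ⟨r, b.repr (S.mkQ v) 0, b.repr (S.mkQ v) 1, by rw [hr]; abel⟩

namespace Gr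

variable {g : Gr F V Q2 Q3}

/-- A second layer of dimension two with a surjective multiplication. -/
theorem line_of_iso_two [FiniteDimensional F V] [FiniteDimensional F Q2] (hg : g.Comm)
    (hV : Module.finrank F V = 3) (hQ : Module.finrank F Q2 = 2) {t : V}
    (ht : Function.Surjective (g.mu t)) (ht' : Function.Surjective (g.mu.flip t)) : g.Line := by
  have hrange : ∀ u m, g.L u m ∈ LinearMap.range (g.L t) := fun u m => by
    obtain ⟨w, rfl⟩ := ht m
    obtain ⟨u', hu'⟩ := ht (g.mu u t)
    exact ⟨g.mu u' w, by rw [g.assoc, hu', ← g.assoc]⟩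
  by_cases hinj : Function.Injective (g.L t)
  · exfalso
    obtain ⟨n, hn, hn0⟩ : ∃ n, g.mu t n = 0 ∧ n ≠ 0 := by
      by_contra h
      push Not at h
      have h' := LinearMap.finrank_range_add_finrank_ker (g.mu t)
      rw [LinearMap.ker_eq_bot.2 ((injective_iff_map_eq_zero _).2 h), finrank_bot,
        LinearMap.range_eq_top.2 ht, finrank_top, hQ, hV] at h'
      omega
    have hr : ∀ x, g.mu x n = 0 := fun x => hinj <| by
      rw [map_zero, g.assoc]
      obtain ⟨x', hx'⟩ := ht' (g.mu t x)
      simp only [LinearMap.flip_apply] at hx'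
      rw [← hx', ← g.assoc, hn, map_zero]
    have hl : ∀ w, g.mu n w = 0 := fun w => hinj <| by
      rw [map_zero, g.assoc, hn, map_zero, LinearMap.zero_apply]
    obtain ⟨a, b, hsp⟩ := exists_two_more hV hn0
    have htop : (⊤ : Submodule F Q2) ≤ Submodule.span F {g.mu a b - g.mu b a} := fun m _ =>
      hg.mem_of_three hsp (by rw [hr, hl, sub_zero]; exact Submodule.zero_mem _)
        (by rw [hr, hl, sub_zero]; exact Submodule.zero_mem _) (Submodule.mem_span_singleton_self _) m
    have h := Submodule.finrank_mono htop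
    rw [finrank_top, hQ] at h
    have := finrank_span_le_card (R := F) ({g.mu a b - g.mu b a} : Set Q2)
    simp only [Set.toFinset_singleton, Finset.card_singleton] at this
    omega
  · obtain ⟨m, hm, hm0⟩ : ∃ m, g.L t m = 0 ∧ m ≠ 0 := by
      by_contra h
      push Not at h
      exact hinj ((injective_iff_map_eq_zero _).2 h)
    have hle : Module.finrank F (LinearMap.range (g.L t)) ≤ 1 := by
      have h := LinearMap.finrank_range_add_finrank_ker (g.L t)
      have h' : 0 < Module.finrank F (LinearMap.ker (g.L t)) := by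
        rw [Module.finrank_pos_iff_exists_ne_zero]
        exact ⟨⟨m, hm⟩, fun e => hm0 (congrArg Subtype.val e)⟩
      omega
    obtain ⟨X, hX⟩ := finrank_le_one_iff.1 hle
    refine ⟨X, fun u m => ?_⟩
    obtain ⟨r, hr⟩ := hX ⟨_, hrange u m⟩
    exact Submodule.mem_span_singleton.2 ⟨r, congrArg Subtype.val hr⟩

/-- The triangle carries a cyclic functional. -/
theorem false_of_iso_three [IsAlgClosed F] [FiniteDimensional F V] [FiniteDimensional F Q2]
    (hg : g.Comm) (hV : Module.finrank F V = 3) (hQ : Module.finrank F Q2 = 3) {t : V}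
    (ht : Function.Surjective (g.mu t)) (ht' : Function.Surjective (g.mu.flip t))
    (hker : ∀ m, g.L t m = 0 → (∀ w, g.R m w = 0) ∧ ∀ u, g.L u m = 0)
    (hne : g.L t ≠ 0)
    (hB3 : ∀ Ψ : Q3 →ₗ[F] F, (∀ u m, Ψ (g.L u m) = Ψ (g.R m u)) → ∀ u m, Ψ (g.L u m) = 0) :
    False := by
  classical
  have hVQ : Module.finrank F V = Module.finrank F Q2 := hV.trans hQ.symm
  let e : V ≃ₗ[F] Q2 := LinearEquiv.ofBijective (g.mu t)
    ⟨(LinearMap.injective_iff_surjective_of_finrank_eq_finrank hVQ).2 ht, ht⟩
  have he : ∀ x, e x = g.mu t x := fun x => rfl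
  let N : V →ₗ[F] Module.End F V :=
    { toFun := fun u => e.symm.toLinearMap ∘ₗ g.mu u
      map_add' := fun a b => by rw [map_add, LinearMap.comp_add]
      map_smul' := fun r a => by rw [map_smul, LinearMap.comp_smul, RingHom.id_apply] }
  have hN : ∀ u v, g.mu t (N u v) = g.mu u v := fun u v => e.apply_symm_apply _
  have hNt : ∀ v, N t v = v := fun v => e.symm_apply_apply v
  let σ : V →ₗ[F] V := N.flip t
  have hσ' : ∀ u, σ u = N u t := fun u => rfl
  have hσ : Function.Surjective σ := fun y => by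
    obtain ⟨u, hu⟩ := ht' (g.mu t y)
    exact ⟨u, e.injective (by rw [he, he, hσ', hN]; simpa using hu)⟩
  have hσt : σ t = t := hNt t
  let M : V →ₗ[F] Q3 := g.L t ∘ₗ g.mu t
  have key : ∀ u v w, M (N (σ u) (N v w)) = M (N (N u v) w) := fun u v w => by
    show g.L t (g.mu t _) = g.L t (g.mu t _)
    rw [hN, hN, g.assoc, hσ', hN u t, ← g.assoc, hN, g.assoc, g.assoc t, hN]
  set n0 := LinearMap.ker M with hn0
  have hinv : ∀ u, ∀ x ∈ n0, N u x ∈ n0 := fun u x hx => by
    rw [hn0, LinearMap.mem_ker] at hx ⊢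
    show g.L t (g.mu t _) = 0
    rw [hN, g.assoc]
    obtain ⟨u', hu'⟩ := ht' (g.mu t u)
    simp only [LinearMap.flip_apply] at hu'
    rw [← hu', ← g.assoc]
    exact (hker _ hx).2 u'
  have hleft : ∀ x ∈ n0, ∀ w, N x w ∈ n0 := fun x hx w => by
    rw [hn0, LinearMap.mem_ker] at hx ⊢
    show g.L t (g.mu t _) = 0
    rw [hN, g.assoc]
    exact (hker _ hx).1 w
  have : Nontrivial (V ⧸ n0) := by
    refine Submodule.Quotient.nontrivial_iff.2 fun h => hne (LinearMap.ext fun m => ?_)
    obtain ⟨x, rfl⟩ := ht m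
    exact LinearMap.mem_ker.1 (show x ∈ n0 by rw [h]; trivial)
  let T : V →ₗ[F] Module.End F (Module.Dual F (V ⧸ n0)) :=
    { toFun := fun u => (n0.mapQ n0 (N u) (hinv u)).dualMap
      map_add' := fun a b => by
        refine LinearMap.ext fun f => LinearMap.ext fun z => ?_
        obtain ⟨x, rfl⟩ := n0.mkQ_surjective z
        simp
      map_smul' := fun r a => by
        refine LinearMap.ext fun f => LinearMap.ext fun z => ?_
        obtain ⟨x, rfl⟩ := n0.mkQ_surjective z
        simp }
  have hT : ∀ u f x, T u f (n0.mkQ x) = f (n0.mkQ (N u x)) := fun u f x => rfl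
  obtain ⟨f, hf0, hf⟩ := exists_common_eigen (LinearMap.range T)
    (le_trans (LinearMap.finrank_range_le T) hV.le)
    ⟨t, LinearMap.ext fun f => LinearMap.ext fun z => by
      obtain ⟨x, rfl⟩ := n0.mkQ_surjective z
      rw [hT, hNt]; rfl⟩
    (by
      rintro _ ⟨a, rfl⟩ _ ⟨b, rfl⟩
      obtain ⟨b', hb'⟩ := hσ b
      refine ⟨N b' a, LinearMap.ext fun f => LinearMap.ext fun z => ?_⟩
      obtain ⟨x, rfl⟩ := n0.mkQ_surjective z
      show T (N b' a) f (n0.mkQ x) = T a (T b f) (n0.mkQ x)
      rw [hT, hT, hT, ← hb']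
      congr 1
      exact (Submodule.Quotient.eq n0).2
        (by rw [hn0, LinearMap.mem_ker, map_sub, key, sub_self]))
  set f₀ : V →ₗ[F] F := f ∘ₗ n0.mkQ with hf₀
  obtain ⟨v₀, hv₀⟩ : ∃ v, f₀ v ≠ 0 := by
    by_contra h
    push Not at h
    refine hf0 (LinearMap.ext fun z => ?_)
    obtain ⟨x, rfl⟩ := n0.mkQ_surjective z
    exact h x
  -- one step of the chain
  let Rel : (V →ₗ[F] F) → (V →ₗ[F] F) → Prop := fun a b => ∀ u v, a (N u v) = b u * a v
  let lam : V →ₗ[F] F := (f₀ v₀)⁻¹ • (f₀ ∘ₗ N.flip v₀)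
  have hlam : Rel f₀ lam := fun u v => by
    obtain ⟨c, hc⟩ := hf (T u) ⟨u, rfl⟩
    have h : ∀ w, f₀ (N u w) = c * f₀ w := fun w => by
      have := LinearMap.congr_fun hc (n0.mkQ w)
      rwa [hT] at this
    show _ = (f₀ v₀)⁻¹ * f₀ (N u v₀) * f₀ v
    rw [h, h, ← mul_assoc, mul_comm (f₀ v₀)⁻¹ c, mul_assoc c, inv_mul_cancel₀ hv₀, mul_one]
  have step : ∀ a b : V →ₗ[F] F, (∃ v, a v ≠ 0) → (∀ x ∈ n0, a x = 0) → Rel a b →
      b t = 1 ∧ (∀ x ∈ n0, b x = 0) ∧ Rel b (b ∘ₗ σ) := by
    intro a b hne ha hab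
    obtain ⟨v, hv⟩ := hne
    refine ⟨?_, fun x hx => ?_, fun u x => ?_⟩
    · have := hab t v
      rw [hNt] at this
      exact mul_right_cancel₀ hv (this.symm.trans (one_mul _).symm)
    · have := hab x v
      rw [ha _ (hleft x hx v)] at this
      exact (mul_eq_zero.1 this.symm).resolve_right hv
    · have h : a (N (σ u) (N x v)) = a (N (N u x) v) := by
        rw [← sub_eq_zero, ← map_sub]
        exact ha _ (by rw [hn0, LinearMap.mem_ker, map_sub, key, sub_self])
      rw [hab, hab, hab, ← mul_assoc] at h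
      exact (mul_right_cancel₀ hv h).symm
  have hf₀n : ∀ x ∈ n0, f₀ x = 0 := fun x hx => by
    simp [hf₀, (Submodule.Quotient.mk_eq_zero n0).2 hx]
  let p : ℕ → (V →ₗ[F] F) := Nat.rec lam fun _ b => b ∘ₗ σ
  have hp : ∀ i, p i t = 1 ∧ (∀ x ∈ n0, p i x = 0) ∧ Rel (p i) (p (i + 1)) := by
    intro i
    induction i with
    | zero => exact step f₀ lam ⟨v₀, hv₀⟩ hf₀n hlam
    | succ i ih => exact step _ _ ⟨t, by rw [ih.1]; exact one_ne_zero⟩ ih.2.1 ih.2.2
  have hω : ∀ i u v, p i (e.symm (g.mu u v)) = p (i + 1) u * p i v := fun i u v => (hp i).2.2 u v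
  have hσn : ∀ i u, p (i + 1) u = p i (σ u) := fun i u => rfl
  -- a functional on the second layer symmetric in its arguments vanishes
  have sym : ∀ a : V →ₗ[F] F, (∀ u v, a (e.symm (g.mu u v)) = a (e.symm (g.mu v u))) → a = 0 :=
    fun a h => by
      have := hg (a ∘ₗ e.symm.toLinearMap) h
      refine LinearMap.ext fun x => ?_
      have h' := LinearMap.congr_fun this (e x)
      simpa using h'
  have hpne : ∀ i, p i ≠ 0 := fun i h => by
    have := (hp i).1; rw [h, LinearMap.zero_apply] at this; exact zero_ne_one this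
  have h2 : ∀ i, p (i + 1) ≠ p i := fun i h => hpne i <| sym _ fun u v => by
    rw [hω, hω, h, mul_comm]
  -- three consecutive functionals are independent
  have hind : ∀ i (a b c : F), a • p i + b • p (i + 1) + c • p (i + 2) = 0 →
      a = 0 ∧ b = 0 ∧ c = 0 := by
    intro i a b c h
    have hc : c = 0 := by
      by_contra hc
      -- the last is a combination of the others
      have hd : ∀ x, p (i + 2) x = -(c⁻¹ * a) * p i x + -(c⁻¹ * b) * p (i + 1) x := fun x => by
        have := LinearMap.congr_fun h x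
        simp only [LinearMap.add_apply, LinearMap.smul_apply, smul_eq_mul, LinearMap.zero_apply] at this
        field_simp
        linear_combination this
      set β := -(c⁻¹ * a)
      set α := -(c⁻¹ * b)
      have hz : p (i + 1) + β • p i = 0 := sym _ fun u v => by
        simp only [LinearMap.add_apply, LinearMap.smul_apply, smul_eq_mul, hω]
        rw [show i + 1 + 1 = i + 2 from rfl, hd, hd]
        ring
      have hβ : β = -1 := by
        have := LinearMap.congr_fun hz t
        simp only [LinearMap.add_apply, LinearMap.smul_apply, smul_eq_mul, (hp i).1, (hp (i + 1)).1,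
          LinearMap.zero_apply, mul_one] at this
        linear_combination this
      refine h2 i (LinearMap.ext fun x => ?_)
      have := LinearMap.congr_fun hz x
      simp only [LinearMap.add_apply, LinearMap.smul_apply, smul_eq_mul, LinearMap.zero_apply, hβ] at this
      linear_combination this
    refine ⟨?_, ?_, hc⟩ <;>
    · rw [hc, zero_smul, add_zero] at h
      have ht1 := LinearMap.congr_fun h t
      simp only [LinearMap.add_apply, LinearMap.smul_apply, smul_eq_mul, (hp i).1, (hp (i + 1)).1,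
        LinearMap.zero_apply, mul_one] at ht1
      by_contra h0
      have ha : a = -b := by linear_combination ht1
      have hb : b ≠ 0 := fun hb => h0 (by simp [ha, hb])
      refine h2 i (LinearMap.ext fun x => mul_left_cancel₀ hb ?_)
      have := LinearMap.congr_fun h x
      simp only [LinearMap.add_apply, LinearMap.smul_apply, smul_eq_mul, LinearMap.zero_apply, ha] at this
      linear_combination this
  have hli : ∀ i, LinearIndependent F ![p i, p (i + 1), p (i + 2)] := fun i => by
    rw [Fintype.linearIndependent_iff]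
    intro d hd
    simp only [Fin.sum_univ_three, Matrix.cons_val_zero, Matrix.cons_val_one, Matrix.cons_val_two,
      Matrix.head_cons, Matrix.tail_cons] at hd
    obtain ⟨h0, h1, h2⟩ := hind i _ _ _ hd
    intro j; fin_cases j <;> assumption
  have hspan : ∀ i (a : V →ₗ[F] F), ∃ r s u : F, a = r • p i + s • p (i + 1) + u • p (i + 2) := by
    intro i a
    let B := basisOfLinearIndependentOfCardEqFinrank (hli i)
      (by simp [Subspace.dual_finrank_eq, hV])
    refine ⟨B.repr a 0, B.repr a 1, B.repr a 2, ?_⟩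
    conv_lhs => rw [← B.sum_repr a]
    simp [B, Fin.sum_univ_three]
  have hn0' : ∀ x ∈ n0, x = 0 := fun x hx => by
    refine Module.forall_dual_apply_eq_zero_iff F x |>.1 fun a => ?_
    obtain ⟨r, s, u, rfl⟩ := hspan 0 a
    simp [(hp 0).2.1 x hx, (hp (0 + 1)).2.1 x hx, (hp (0 + 2)).2.1 x hx]
  -- the dual basis
  let P : V →ₗ[F] (Fin 3 → F) := LinearMap.pi ![p 0, p 1, p 2]
  have hP : Function.Surjective P := by
    refine (LinearMap.injective_iff_surjective_of_finrank_eq_finrank (by simp [hV])).1 ?_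
    refine (injective_iff_map_eq_zero _).2 fun x hx => ?_
    refine Module.forall_dual_apply_eq_zero_iff F x |>.1 fun a => ?_
    obtain ⟨r, s, u, rfl⟩ := hspan 0 a
    have e0 : p 0 x = 0 := congrFun hx 0
    have e1 : p 1 x = 0 := congrFun hx 1
    have e2 : p 2 x = 0 := congrFun hx 2
    simp [e0, e1, e2]
  obtain ⟨x0, hx0⟩ := hP ![1, 0, 0]
  obtain ⟨x1, hx1⟩ := hP ![0, 1, 0]
  obtain ⟨x2, hx2⟩ := hP ![0, 0, 1]
  have e00 : p 0 x0 = 1 := congrFun hx0 0
  have e10 : p 1 x0 = 0 := congrFun hx0 1
  have e20 : p 2 x0 = 0 := congrFun hx0 2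
  have e01 : p 0 x1 = 0 := congrFun hx1 0
  have e11 : p 1 x1 = 1 := congrFun hx1 1
  have e21 : p 2 x1 = 0 := congrFun hx1 2
  have e02 : p 0 x2 = 0 := congrFun hx2 0
  have e12 : p 1 x2 = 0 := congrFun hx2 1
  have e22 : p 2 x2 = 1 := congrFun hx2 2
  -- the period is three
  obtain ⟨a, b, c, habc⟩ := hspan 0 (p 3)
  have h43 : ∀ u v, p 4 u * p 3 v = a * (p 1 u * p 0 v) + b * (p 2 u * p 1 v) + c * (p 3 u * p 2 v) := by
    intro u v
    have h := LinearMap.congr_fun habc (e.symm (g.mu u v))
    simp only [LinearMap.add_apply, LinearMap.smul_apply, smul_eq_mul, zero_add] at h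
    rw [hω 3, hω 0, hω 1, hω 2] at h
    exact h
  have h30 : p 3 x0 = a := by simp [habc, e00, e10, e20]
  have h31 : p 3 x1 = b := by simp [habc, e01, e11, e21]
  have h32 : p 3 x2 = c := by simp [habc, e02, e12, e22]
  have hc : c = 0 := by
    by_contra hc
    refine h2 3 (LinearMap.ext fun u => mul_right_cancel₀ hc ?_)
    have := h43 u x2
    rw [h32, e02, e12, e22] at this
    show p 4 u * c = p 3 u * c
    linear_combination this
  have hb : b = 0 := by
    by_contra hb
    have h42 : p 4 = p 2 := LinearMap.ext fun u => mul_right_cancel₀ hb (by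
      have := h43 u x1
      rw [h31, e01, e11, e21] at this
      linear_combination this)
    have ha : a = 0 := by
      by_contra ha
      refine h2 1 ?_
      rw [show (1 : ℕ) + 1 = 2 from rfl, ← h42]
      refine LinearMap.ext fun u => mul_right_cancel₀ ha ?_
      have := h43 u x0
      rw [h30, e00, e10, e20] at this
      linear_combination this
    obtain ⟨-, -, h0⟩ := hind 1 (-b) 0 1 (by
      show -b • p 1 + (0 : F) • p 2 + (1 : F) • p 3 = 0
      rw [habc, ha, hc]; module)
    exact one_ne_zero h0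
  have hp3 : p 3 = p 0 := by
    have h := LinearMap.congr_fun habc t
    simp only [LinearMap.add_apply, LinearMap.smul_apply, smul_eq_mul, zero_add, hb, hc, zero_mul,
      add_zero, (hp 0).1, (hp 3).1, mul_one] at h
    rw [habc, hb, hc, ← h]
    module
  have hp4 : p 4 = p 1 := LinearMap.ext fun u => by
    show p 3 (σ u) = p 0 (σ u)
    rw [hp3]
  -- the cyclic functional
  have hM : Function.Injective M := (injective_iff_map_eq_zero _).2 fun x hx => hn0' x hx
  obtain ⟨Mi, hMi⟩ := M.exists_leftInverse_of_injective (LinearMap.ker_eq_bot.2 hM)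
  set Ψ : Q3 →ₗ[F] F := (p 0 + p 1 + p 2) ∘ₗ Mi with hΨ
  have hval : ∀ u v w, Ψ (g.L u (g.mu v w)) =
      p 2 u * (p 1 v * p 0 w) + p 0 u * (p 2 v * p 1 w) + p 1 u * (p 0 v * p 2 w) := fun u v w => by
    have h : g.L u (g.mu v w) = M (N (σ u) (N v w)) := by
      show _ = g.L t (g.mu t _)
      rw [hN, g.assoc t, hσ', hN u t, ← g.assoc, hN]
    rw [h]
    show (p 0 + p 1 + p 2) ((Mi ∘ₗ M) _) = _
    rw [hMi]
    simp only [LinearMap.id_apply, LinearMap.add_apply]
    rw [(hp 0).2.2, (hp 0).2.2, (hp 1).2.2, (hp 1).2.2, (hp 2).2.2, (hp 2).2.2]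
    show p 2 u * (p 1 v * p 0 w) + p 3 u * (p 2 v * p 1 w) + p 4 u * (p 3 v * p 2 w) = _
    rw [hp4]
    show p 2 u * (p 1 v * p 0 w) + p 3 u * (p 2 v * p 1 w) + p 1 u * (p 3 v * p 2 w) = _
    rw [hp3]
  have := hB3 Ψ (fun u m => by
    obtain ⟨w, rfl⟩ := ht m
    rw [← g.assoc, hval, hval]
    ring) x2 (g.mu x1 x0)
  rw [hval, e22, e11, e00, e02, e12] at this
  simp at this

/-- Two generators: either the third layer is a line or two squares vanish. -/
theorem two_generators [IsAlgClosed F] [FiniteDimensional F Q2] (hQ : Module.finrank F Q2 = 2)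
    {x y : V} (hsp : ∀ v : V, ∃ r s : F, v = r • x + s • y)
    (hmu : ∀ f : Q2 →ₗ[F] F, (∀ a b, f (g.mu a b) = 0) → f = 0)
    (hB3 : ∀ Ψ : Q3 →ₗ[F] F, (∀ u m, Ψ (g.L u m) = Ψ (g.R m u)) → ∀ u m, Ψ (g.L u m) = 0)
    (hc : g.mu x y ≠ g.mu y x) :
    g.Line ∨ ∃ x' y', (∀ v : V, ∃ r s : F, v = r • x' + s • y') ∧ g.mu x' x' = 0 ∧ g.mu y' y' = 0 := by
  set c := g.mu x y - g.mu y x with hcdef
  have hc0 : c ≠ 0 := sub_ne_zero.2 hc
  obtain ⟨q, hq0, hqC⟩ := (Submodule.span F {c}).exists_le_ker_of_lt_top (lt_top_iff_ne_top.2 fun h => by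
    have := finrank_span_singleton (K := F) hc0
    rw [h, finrank_top, hQ] at this
    omega)
  have hqc : q c = 0 := hqC (Submodule.mem_span_singleton_self c)
  have hkerq : ∀ m, q m = 0 → ∃ r : F, m = r • c := fun m hm => by
    have hle : LinearMap.ker q ≤ Submodule.span F {c} := by
      refine (Submodule.eq_of_le_of_finrank_le hqC ?_).ge
      have h := LinearMap.finrank_range_add_finrank_ker q
      have hr : 0 < Module.finrank F (LinearMap.range q) := by
        rw [Module.finrank_pos_iff_exists_ne_zero]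
        obtain ⟨m, hm⟩ : ∃ m, q m ≠ 0 := by
          by_contra hh; push Not at hh; exact hq0 (LinearMap.ext hh)
        exact ⟨⟨q m, m, rfl⟩, fun e => hm (congrArg Subtype.val e)⟩
      rw [finrank_span_singleton hc0]
      omega
    obtain ⟨r, hr⟩ := Submodule.mem_span_singleton.1 (hle hm)
    exact ⟨r, hr.symm⟩
  have hdet : ∀ (r s r' s' : F), g.mu (r • x + s • y) (r' • x + s' • y) -
      g.mu (r' • x + s' • y) (r • x + s • y) = (r * s' - s * r') • c := fun r s r' s' => by
    simp only [hcdef, map_add, map_smul, LinearMap.add_apply, LinearMap.smul_apply]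
    module
  have hsym : ∀ a b, q (g.mu a b) = q (g.mu b a) := fun a b => by
    obtain ⟨r, s, rfl⟩ := hsp a
    obtain ⟨r', s', rfl⟩ := hsp b
    rw [← sub_eq_zero, ← map_sub, hdet, map_smul, hqc, smul_zero]
  -- choose an isotropic first generator
  suffices main : ∀ x y : V, (∀ v : V, ∃ r s : F, v = r • x + s • y) → q (g.mu x x) = 0 →
      g.Line ∨ ∃ x' y', (∀ v : V, ∃ r s : F, v = r • x' + s • y') ∧ g.mu x' x' = 0 ∧ g.mu y' y' = 0 by
    by_cases hd : q (g.mu y y) = 0
    · exact main y x (fun v => by obtain ⟨r, s, rfl⟩ := hsp v; exact ⟨s, r, add_comm _ _⟩) hd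
    obtain ⟨t, ht⟩ := IsAlgClosed.exists_root
      (Polynomial.C (q (g.mu y y)) * Polynomial.X ^ 2 + Polynomial.C (q (g.mu x y) + q (g.mu y x)) * Polynomial.X +
        Polynomial.C (q (g.mu x x)))
      (by rw [Polynomial.degree_quadratic hd]; simp)
    refine main (x + t • y) y (fun v => ?_) ?_
    · obtain ⟨r, s, rfl⟩ := hsp v
      exact ⟨r, s - r * t, by module⟩
    · simp only [Polynomial.IsRoot.def, Polynomial.eval_add, Polynomial.eval_mul, Polynomial.eval_C,
        Polynomial.eval_pow, Polynomial.eval_X] at ht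
      simp only [map_add, map_smul, LinearMap.add_apply, LinearMap.smul_apply, smul_eq_mul]
      linear_combination ht
  intro x y hsp hxx
  obtain ⟨α, hα⟩ := hkerq _ hxx
  -- brackets
  let Bk : V → Q2 → Q3 := fun u m => g.L u m - g.R m u
  have hid : ∀ u v, Bk u (g.mu u v) + Bk u (g.mu v u) + Bk v (g.mu u u) = 0 := fun u v => by
    simp only [Bk, g.assoc u u v, g.assoc u v u, g.assoc v u u]
    abel
  have hBline : ∀ y : V, (∀ v : V, ∃ r s : F, v = r • x + s • y) → ∀ X : Q3,
      (∀ m, Bk x m ∈ Submodule.span F {X}) → (∀ m, Bk y m ∈ Submodule.span F {X}) → g.Line := by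
    intro y hsp X hx hy
    refine ⟨X, fun u m => ?_⟩
    by_contra hm
    obtain ⟨Ψ, hΨm, hΨ⟩ := Submodule.exists_dual_map_eq_bot_of_notMem hm inferInstance
    have hS : ∀ z ∈ Submodule.span F {X}, Ψ z = 0 := fun z hz => by
      have : Ψ z ∈ (Submodule.span F {X}).map Ψ := Submodule.mem_map_of_mem hz
      rwa [hΨ, Submodule.mem_bot] at this
    refine hΨm (hB3 Ψ (fun v n => ?_) u m)
    obtain ⟨r, s, rfl⟩ := hsp v
    have h1 := hS _ (hx n)
    have h2 := hS _ (hy n)
    simp only [Bk, map_sub, sub_eq_zero] at h1 h2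
    simp [map_add, map_smul, h1, h2]
  have hsym' : q (g.mu x y) = q (g.mu y x) := hsym x y
  obtain ⟨c', hc'⟩ : ∃ c', g.mu x y - g.mu y x = c' := ⟨_, rfl⟩
  obtain ⟨δ, hδ⟩ := hkerq c' (by rw [← hc', map_sub, hsym', sub_self])
  -- the bracket is spanned by those of `c` and one more element
  have hdec : ∀ w, q w ≠ 0 → ∀ u (X : Q3), Bk u c ∈ Submodule.span F {X} →
      Bk u w ∈ Submodule.span F {X} → ∀ m, Bk u m ∈ Submodule.span F {X} := by
    intro w hw u X h1 h2 m
    obtain ⟨r, hr⟩ := hkerq (m - (q m / q w) • w) (by simp [hw])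
    rw [show m = r • c + (q m / q w) • w by rw [← hr]; abel]
    simp only [Bk, map_add, map_smul, LinearMap.add_apply, LinearMap.smul_apply, sub_eq_add_neg,
      neg_add, ← smul_neg] at h1 h2 ⊢
    rw [show ∀ a b c d : Q3, a + b + (c + d) = (a + c) + (b + d) from fun a b c d => by abel,
      ← smul_add, ← smul_add]
    exact add_mem (Submodule.smul_mem _ _ h1) (Submodule.smul_mem _ _ h2)
  have hmemX : ∀ X : Q3, X ∈ Submodule.span F {X} := fun X => Submodule.mem_span_singleton_self X
  by_cases hiso : ∃ y', (∀ v : V, ∃ r s : F, v = r • x + s • y') ∧ q (g.mu y' y') = 0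
  · obtain ⟨y, hsp, hyy⟩ := hiso
    obtain ⟨β, hβ⟩ := hkerq _ hyy
    have hsym' : q (g.mu x y) = q (g.mu y x) := hsym x y
    have hw : q (g.mu x y) ≠ 0 := by
      intro h
      refine hq0 (hmu q fun a b => ?_)
      obtain ⟨r, s, rfl⟩ := hsp a
      obtain ⟨r', s', rfl⟩ := hsp b
      simp [map_add, map_smul, hxx, hyy, h, ← hsym']
    obtain ⟨δ, hδ⟩ := hkerq (g.mu x y - g.mu y x) (by rw [map_sub, hsym', sub_self])
    have hδ0 : δ ≠ 0 := by
      intro h
      rw [h, zero_smul, sub_eq_zero] at hδ
      have hall : ∀ a b, g.mu a b = g.mu b a := fun a b => by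
        obtain ⟨r, s, rfl⟩ := hsp a
        obtain ⟨r', s', rfl⟩ := hsp b
        simp only [map_add, map_smul, LinearMap.add_apply, LinearMap.smul_apply, hδ]
        module
      exact hc0 (by rw [hcdef, hall, sub_self])
    have hs : ∀ u, Bk u (g.mu x y) + Bk u (g.mu y x) = (2 : F) • Bk u (g.mu x y) - δ • Bk u c := by
      intro u
      rw [show g.mu y x = g.mu x y - δ • c by rw [← hδ]; abel]
      simp only [Bk, map_sub, map_smul, LinearMap.sub_apply, LinearMap.smul_apply]
      module
    have i1 : Bk x (g.mu x y) + Bk x (g.mu y x) + Bk y (g.mu x x) = 0 := hid x y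
    have i2 : Bk y (g.mu y x) + Bk y (g.mu x y) + Bk x (g.mu y y) = 0 := hid y x
    have hsm : ∀ u (r : F), Bk u (r • c) = r • Bk u c := fun u r => by
      simp only [Bk, map_smul, LinearMap.smul_apply, smul_sub]
    rw [hs, hα, hsm] at i1
    rw [add_comm (Bk y (g.mu y x)), hs, hβ, hsm] at i2
    have a0 : α • Bk x c = 0 := by rw [← hsm, ← hα]; simp [Bk, g.assoc]
    have b0 : β • Bk y c = 0 := by rw [← hsm, ← hβ]; simp [Bk, g.assoc]
    by_cases h2 : (2 : F) = 0
    · -- characteristic two: both squares can be removed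
      rw [h2, zero_smul, zero_sub] at i1 i2
      obtain ⟨t, ht⟩ : ∃ t : F, α - δ * t + β * t ^ 2 = 0 := by
        by_cases hb : β = 0
        · exact ⟨α / δ, by rw [hb]; field_simp; ring⟩
        obtain ⟨t, ht⟩ := IsAlgClosed.exists_root
          (Polynomial.C β * Polynomial.X ^ 2 + Polynomial.C (-δ) * Polynomial.X + Polynomial.C α)
          (by rw [Polynomial.degree_quadratic hb]; simp)
        simp only [Polynomial.IsRoot.def, Polynomial.eval_add, Polynomial.eval_mul, Polynomial.eval_C,
          Polynomial.eval_pow, Polynomial.eval_X] at ht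
        exact ⟨t, by linear_combination ht⟩
      have hyx : g.mu y x = g.mu x y - δ • c := by rw [← hδ]; abel
      have hsum : g.mu x y + g.mu y x = -(δ • c) := by
        rw [hyx, show g.mu x y + (g.mu x y - δ • c) = (2 : F) • g.mu x y - δ • c by module, h2,
          zero_smul, zero_sub]
      have hx' : g.mu (x + t • y) (x + t • y) = 0 := by
        rw [show g.mu (x + t • y) (x + t • y) = g.mu x x + t • (g.mu x y + g.mu y x) + (t * t) • g.mu y y by
          simp only [map_add, map_smul, LinearMap.add_apply, LinearMap.smul_apply]; module,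
          hsum, hα, hβ, show α • c + t • -(δ • c) + (t * t) • β • c = (α - δ * t + β * t ^ 2) • c by module,
          ht, zero_smul]
      refine Or.inr ⟨x + t • y, y + (β / δ) • (x + t • y), fun v => ?_, hx', ?_⟩
      · obtain ⟨r, s, rfl⟩ := hsp v
        exact ⟨r - (β / δ) * (s - r * t), s - r * t, by module⟩
      · have hsum' : g.mu (x + t • y) y + g.mu y (x + t • y) = -(δ • c) := by
          rw [show g.mu (x + t • y) y + g.mu y (x + t • y) =
            (g.mu x y + g.mu y x) + ((2 : F) * t) • g.mu y y by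
            simp only [map_add, map_smul, LinearMap.add_apply, LinearMap.smul_apply]; module,
            hsum, h2, zero_mul, zero_smul, add_zero]
        rw [show g.mu (y + (β / δ) • (x + t • y)) (y + (β / δ) • (x + t • y)) =
          g.mu y y + (β / δ) • (g.mu (x + t • y) y + g.mu y (x + t • y)) +
            ((β / δ) * (β / δ)) • g.mu (x + t • y) (x + t • y) by
          simp only [map_add, map_smul, LinearMap.add_apply, LinearMap.smul_apply]; module,
          hx', smul_zero, add_zero, hsum', hβ, smul_neg, smul_smul, div_mul_cancel₀ _ hδ0, add_neg_cancel]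
    · by_cases hab : α = 0 ∧ β = 0
      · exact Or.inr ⟨x, y, hsp, by rw [hα, hab.1, zero_smul], by rw [hβ, hab.2, zero_smul]⟩
      left
      obtain ⟨X, hX1, hX2⟩ : ∃ X : Q3, Bk x c ∈ Submodule.span F {X} ∧ Bk y c ∈ Submodule.span F {X} := by
        rcases not_and_or.1 hab with h | h
        · exact ⟨Bk y c, by rw [(smul_eq_zero.1 a0).resolve_left h]; exact Submodule.zero_mem _, hmemX _⟩
        · exact ⟨Bk x c, hmemX _, by rw [(smul_eq_zero.1 b0).resolve_left h]; exact Submodule.zero_mem _⟩
      refine hBline y hsp X (hdec _ hw x X hX1 ?_) (hdec _ hw y X hX2 ?_)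
      · refine (Submodule.smul_mem_iff _ h2).1 ?_
        rw [show (2 : F) • Bk x (g.mu x y) = δ • Bk x c + -(α • Bk y c) from by
          linear_combination (norm := module) i1]
        exact add_mem (Submodule.smul_mem _ _ hX1) (neg_mem (Submodule.smul_mem _ _ hX2))
      · refine (Submodule.smul_mem_iff _ h2).1 ?_
        rw [show (2 : F) • Bk y (g.mu x y) = δ • Bk y c + -(β • Bk x c) from by
          linear_combination (norm := module) i2]
        exact add_mem (Submodule.smul_mem _ _ hX2) (neg_mem (Submodule.smul_mem _ _ hX1))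
  · left
    push Not at hiso
    have hw : q (g.mu y y) ≠ 0 := hiso y hsp
    have h2b : q (g.mu x y) + q (g.mu y x) = 0 := by
      by_contra h
      refine hiso (y + (-q (g.mu y y) / (q (g.mu x y) + q (g.mu y x))) • x) (fun v => ?_) ?_
      · obtain ⟨r, s, rfl⟩ := hsp v
        exact ⟨r - s * (-q (g.mu y y) / (q (g.mu x y) + q (g.mu y x))), s, by module⟩
      · simp only [map_add, map_smul, LinearMap.add_apply, LinearMap.smul_apply, smul_eq_mul, hxx]
        field_simp
        ring
    obtain ⟨s, hs⟩ := hkerq (g.mu x y + g.mu y x) (by rw [map_add]; exact h2b)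
    have hsm : ∀ u (r : F), Bk u (r • c) = r • Bk u c := fun u r => by
      simp only [Bk, map_smul, LinearMap.smul_apply, smul_sub]
    have hadd : ∀ u, Bk u (g.mu x y) + Bk u (g.mu y x) = s • Bk u c := fun u => by
      rw [← hsm, ← hs]
      simp only [Bk, map_add, LinearMap.add_apply]
      abel
    have i1 : s • Bk x c + α • Bk y c = 0 := by
      have := hid x y
      rwa [hadd, hα, hsm] at this
    have i2 : s • Bk y c + Bk x (g.mu y y) = 0 := by
      have := hid y x
      rwa [add_comm (Bk y (g.mu y x)), hadd] at this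
    have a0 : α • Bk x c = 0 := by rw [← hsm, ← hα]; simp [Bk, g.assoc]
    have hxc : Bk x c ∈ Submodule.span F {Bk y c} := by
      by_cases hα0 : α = 0
      · by_cases hs0 : s = 0
        · -- both relations vanish
          have hxx0 : g.mu x x = 0 := by rw [hα, hα0, zero_smul]
          have hyx : g.mu y x = -g.mu x y := eq_neg_of_add_eq_zero_right (by rw [hs, hs0, zero_smul])
          have hδ0 : δ ≠ 0 := by
            intro h
            have hxy : g.mu x y = g.mu y x := sub_eq_zero.1 (by rw [hc', hδ, h, zero_smul])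
            have hall : ∀ a b, g.mu a b = g.mu b a := fun a b => by
              obtain ⟨r, u, rfl⟩ := hsp a
              obtain ⟨r', u', rfl⟩ := hsp b
              simp only [map_add, map_smul, LinearMap.add_apply, LinearMap.smul_apply, hxy]
              module
            exact hc0 (by rw [hcdef, hall, sub_self])
          have hcxy : c = δ⁻¹ • ((2 : F) • g.mu x y) := by
            rw [show (2 : F) • g.mu x y = δ • c by
              rw [← hδ, ← hc', hyx]; module, smul_smul, inv_mul_cancel₀ hδ0, one_smul]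
          have e1 : g.L x (g.mu x y) = 0 := by rw [g.assoc, hxx0, map_zero, LinearMap.zero_apply]
          have e2 : g.R (g.mu x y) x = 0 := by
            rw [show g.mu x y = -g.mu y x by rw [hyx, neg_neg], map_neg, LinearMap.neg_apply, ← g.assoc,
              hxx0, map_zero, neg_zero]
          have : Bk x c = 0 := by
            simp only [Bk, hcxy, map_smul, LinearMap.smul_apply, e1, e2, smul_zero, sub_self]
          rw [this]; exact Submodule.zero_mem _
        · refine (Submodule.smul_mem_iff _ hs0).1 ?_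
          rw [eq_neg_of_add_eq_zero_left i1]
          exact neg_mem (Submodule.smul_mem _ _ (hmemX _))
      · rw [(smul_eq_zero.1 a0).resolve_left hα0]; exact Submodule.zero_mem _
    refine hBline y hsp (Bk y c) (hdec _ hw x _ hxc ?_) (hdec _ hw y _ (hmemX _) ?_)
    · rw [eq_neg_of_add_eq_zero_right i2]
      exact neg_mem (Submodule.smul_mem _ _ (hmemX _))
    · have : Bk y (g.mu y y) = 0 := by simp [Bk, g.assoc]
      rw [this]; exact Submodule.zero_mem _

end Gr

end CfsgLib.SmallCenter
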