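import Cfsg.Agent.Lib.Blocks.Brauer.SmallCenter.Layers
import Cfsg.Agent.Lib.Blocks.Brauer.SmallCenter.Degenerate
import Cfsg.Agent.Lib.Blocks.Brauer.SmallCenter.Iso
import Cfsg.Agent.Lib.Blocks.Brauer.LocalAlgebra

/-!
# Local symmetric algebras with at most five independent traces have dimension at most eleven

Chlebowitz and Külshammer show that the dimension is at most five or equals eight.  The weaker
bound below is enough for blocks.
-/

set_option autoImplicit false

namespace CfsgLib.SmallCenter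

variable {F A : Type*} [Field F] [IsAlgClosed F] [Ring A] [Algebra F A] [FiniteDimensional F A]
  {J : Submodule F A} {s : A →ₗ[F] F}

omit [IsAlgClosed F] in
/-- Two elements spanning the radical modulo its square, with squares in the cube. -/
theorem finrank_comms_le_of_squares (h : Rad J s) {x y z : A} (hx : x ∈ J) (hy : y ∈ J)
    (hgen : J ≤ Submodule.span F {x, y} ⊔ J ^ 2) (hxx : x * x ∈ J ^ 3) (hyy : y * y ∈ J ^ 3)
    (hc : x * y - y * x ∉ J ^ 3) (hnl : ∀ w, ¬ J ^ 3 ≤ Submodule.span F {w} ⊔ J ^ 4)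
    (hz : z ∈ J ^ 4) (hfour : J ^ 4 ≤ Submodule.span F {z} ∨
      (z ∈ J ^ 5 ∧ J ^ 3 ≤ (comms J ⊓ J ^ 3) ⊔ Submodule.span F {z})) :
    Module.finrank F (comms J) ≤ 3 := by
  classical
  set c := x * y - y * x with hcdef
  set g₁ := x * (x * y) - x * y * x with hg₁
  set g₂ := y * (x * y) - x * y * y with hg₂
  set M := Submodule.span F {w | ∃ u ∈ J, ∃ m ∈ J ^ 3, w = u * m - m * u} with hM
  have hMm : ∀ u ∈ J, ∀ m ∈ J ^ 3, u * m - m * u ∈ M := fun u hu m hm =>
    Submodule.subset_span ⟨u, hu, m, hm, rfl⟩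
  set T := Submodule.span F {g₁, g₂} ⊔ M with hT
  have hxy2 : x * y ∈ J ^ 2 := by rw [pow_two]; exact Submodule.mul_mem_mul hx hy
  have hyx2 : y * x ∈ J ^ 2 := by rw [pow_two]; exact Submodule.mul_mem_mul hy hx
  have g1T : g₁ ∈ T := Submodule.mem_sup_left (Submodule.subset_span (by simp))
  have g2T : g₂ ∈ T := Submodule.mem_sup_left (Submodule.subset_span (by simp))
  have hdec : ∀ u ∈ J, ∃ (α β : F) (u₂ : A), u₂ ∈ J ^ 2 ∧ u = α • x + β • y + u₂ := by
    intro u hu
    obtain ⟨u₁, hu₁, u₂, hu₂, rfl⟩ := Submodule.mem_sup.1 (hgen hu)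
    obtain ⟨α, β, rfl⟩ := Submodule.mem_span_pair.1 hu₁
    exact ⟨α, β, u₂, hu₂, rfl⟩
  -- the second layer
  have hJ2 : J ^ 2 ≤ Submodule.span F {x * y, y * x} ⊔ J ^ 3 := by
    rw [pow_two, Submodule.mul_le]
    intro u hu v hv
    obtain ⟨α, β, u₂, hu₂, rfl⟩ := hdec u hu
    obtain ⟨γ, δ, v₂, hv₂, rfl⟩ := hdec v hv
    rw [show (α • x + β • y + u₂) * (γ • x + δ • y + v₂) =
      ((α * δ) • (x * y) + (β * γ) • (y * x)) + ((α * γ) • (x * x) + (β * δ) • (y * y) +
        ((α • x + β • y) * v₂ + u₂ * (γ • x + δ • y + v₂))) by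
      simp only [add_mul, mul_add, smul_mul_assoc, mul_smul_comm, smul_add, smul_smul]; module]
    refine Submodule.mem_sup.2 ⟨_, Submodule.mem_span_pair.2 ⟨_, _, rfl⟩, _, ?_, rfl⟩
    have e1 := mul_mem_pow (mem_pow_one.2 (add_mem (J.smul_mem α hx) (J.smul_mem β hy))) hv₂
    have e2 := mul_mem_pow hu₂ (mem_pow_one.2 hv)
    exact add_mem (add_mem (Submodule.smul_mem _ _ hxx) (Submodule.smul_mem _ _ hyy)) (add_mem e1 e2)
  -- brackets of the generators with the second layer
  have bxyx : x * (y * x) - y * x * x ∈ T := by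
    rw [show x * (y * x) - y * x * x = -(y * (x * x) - x * x * y) - g₁ by rw [hg₁]; noncomm_ring]
    exact sub_mem (neg_mem (Submodule.mem_sup_right (hMm y hy _ hxx))) g1T
  have byyx : y * (y * x) - y * x * y ∈ T := by
    rw [show y * (y * x) - y * x * y = -(x * (y * y) - y * y * x) - g₂ by rw [hg₂]; noncomm_ring]
    exact sub_mem (neg_mem (Submodule.mem_sup_right (hMm x hx _ hyy))) g2T
  have hbr : ∀ u ∈ J, ∀ m ∈ J ^ 2, u * m - m * u ∈ T := by
    -- the square of the radical against itself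
    have h22 : ∀ a ∈ J ^ 2, ∀ m ∈ J ^ 2, a * m - m * a ∈ M := by
      intro a ha m hm
      rw [pow_two] at ha
      refine Submodule.mul_induction_on ha (fun p hp q hq => ?_) (fun p q hp hq => ?_)
      · rw [show p * q * m - m * (p * q) = (p * (q * m) - q * m * p) + (q * (m * p) - m * p * q) by
          noncomm_ring]
        refine add_mem (hMm p hp _ ?_) (hMm q hq _ ?_)
        · exact mul_mem_pow (mem_pow_one.2 hq) hm
        · exact mul_mem_pow hm (mem_pow_one.2 hp)
      · rw [show (p + q) * m - m * (p + q) = (p * m - m * p) + (q * m - m * q) by noncomm_ring]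
        exact add_mem hp hq
    intro u hu m hm
    obtain ⟨α, β, u₂, hu₂, rfl⟩ := hdec u hu
    have hgenm : ∀ v ∈ J, v * (x * y) - x * y * v ∈ T → v * (y * x) - y * x * v ∈ T →
        v * m - m * v ∈ T := by
      intro v hv h1 h2
      obtain ⟨m₁, hm₁, m₃, hm₃, rfl⟩ := Submodule.mem_sup.1 (hJ2 hm)
      obtain ⟨γ, δ, rfl⟩ := Submodule.mem_span_pair.1 hm₁
      rw [show v * (γ • (x * y) + δ • (y * x) + m₃) - (γ • (x * y) + δ • (y * x) + m₃) * v =
        γ • (v * (x * y) - x * y * v) + δ • (v * (y * x) - y * x * v) + (v * m₃ - m₃ * v) by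
        simp only [add_mul, mul_add, smul_mul_assoc, mul_smul_comm, smul_sub]; abel]
      exact add_mem (add_mem (T.smul_mem _ h1) (T.smul_mem _ h2)) (Submodule.mem_sup_right (hMm v hv _ hm₃))
    rw [show (α • x + β • y + u₂) * m - m * (α • x + β • y + u₂) =
      α • (x * m - m * x) + β • (y * m - m * y) + (u₂ * m - m * u₂) by
      simp only [add_mul, mul_add, smul_mul_assoc, mul_smul_comm, smul_sub]; abel]
    exact add_mem (add_mem (T.smul_mem _ (hgenm x hx g1T bxyx)) (T.smul_mem _ (hgenm y hy g2T byyx)))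
      (Submodule.mem_sup_right (h22 _ hu₂ _ hm))
  have hcomms : comms J ≤ Submodule.span F {c} ⊔ T := by
    refine (comms_le_gen h (x := ![x, y]) (fun i => by fin_cases i <;> simp [hx, hy])
      (hgen.trans (by rw [Matrix.range_cons, Matrix.range_cons, Matrix.range_empty, Set.union_empty,
        Set.singleton_union]))).trans (sup_le ?_ ?_)
    · rw [Submodule.span_le]
      rintro _ ⟨⟨i, j⟩, rfl⟩
      refine Submodule.mem_sup_left (Submodule.mem_span_singleton.2 ?_)
      fin_cases i <;> fin_cases j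
      · exact ⟨0, by simp⟩
      · exact ⟨1, by simp [hcdef]⟩
      · exact ⟨-1, by simp [hcdef]⟩
      · exact ⟨0, by simp⟩
    · refine le_sup_of_le_right (Submodule.span_le.2 ?_)
      rintro _ ⟨a, ha, b, hb, rfl⟩
      exact hbr a ha b hb
  -- the third layer
  set X := x * (y * x) with hXdef
  set Y := y * (x * y) with hYdef
  have hX3 : X ∈ J ^ 3 := mul_mem_pow (mem_pow_one.2 hx) hyx2
  have hY3 : Y ∈ J ^ 3 := mul_mem_pow (mem_pow_one.2 hy) hxy2
  have hxxy : x * (x * y) ∈ J ^ 4 := by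
    rw [← mul_assoc]; exact mul_mem_pow hxx (mem_pow_one.2 hy)
  have hxyy : x * y * y ∈ J ^ 4 := by
    rw [mul_assoc]; exact mul_mem_pow (mem_pow_one.2 hx) hyy
  have hyyx : y * (y * x) ∈ J ^ 4 := by
    rw [← mul_assoc]; exact mul_mem_pow hyy (mem_pow_one.2 hx)
  have hJ3 : J ^ 3 ≤ Submodule.span F {X, Y} ⊔ J ^ 4 := by
    rw [pow_succ' J 2, Submodule.mul_le]
    intro u hu m hm
    obtain ⟨α, β, u₂, hu₂, rfl⟩ := hdec u hu
    obtain ⟨m₁, hm₁, m₃, hm₃, rfl⟩ := Submodule.mem_sup.1 (hJ2 hm)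
    obtain ⟨γ, δ, rfl⟩ := Submodule.mem_span_pair.1 hm₁
    rw [show (α • x + β • y + u₂) * (γ • (x * y) + δ • (y * x) + m₃) =
      ((α * δ) • X + (β * γ) • Y) + ((α * γ) • (x * (x * y)) + (β * δ) • (y * (y * x)) +
        ((α • x + β • y) * m₃ + u₂ * (γ • (x * y) + δ • (y * x) + m₃))) by
      simp only [hXdef, hYdef, add_mul, mul_add, smul_mul_assoc, mul_smul_comm, smul_add, smul_smul]; module]
    refine Submodule.mem_sup.2 ⟨_, Submodule.mem_span_pair.2 ⟨_, _, rfl⟩, _, ?_, rfl⟩
    have e1 := mul_mem_pow (mem_pow_one.2 (add_mem (J.smul_mem α hx) (J.smul_mem β hy))) hm₃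
    have e2 := mul_mem_pow hu₂ hm
    exact add_mem (add_mem (Submodule.smul_mem _ _ hxxy) (Submodule.smul_mem _ _ hyyx)) (add_mem e1 e2)
  have hind : ∀ a b : F, a • X + b • Y ∈ J ^ 4 → a = 0 ∧ b = 0 := by
    intro a b hab
    by_contra hne
    rcases not_and_or.1 hne with ha | hb
    · refine hnl Y (hJ3.trans (sup_le (Submodule.span_le.2 (Set.insert_subset ?_ ?_)) le_sup_right))
      · refine Submodule.mem_sup.2 ⟨(-(a⁻¹ * b)) • Y, Submodule.smul_mem _ _ (Submodule.mem_span_singleton_self _),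
          a⁻¹ • (a • X + b • Y), Submodule.smul_mem _ _ hab, ?_⟩
        rw [smul_add, smul_smul, inv_mul_cancel₀ ha, smul_smul]; module
      · exact Set.singleton_subset_iff.2 (Submodule.mem_sup_left (Submodule.mem_span_singleton_self _))
    · refine hnl X (hJ3.trans (sup_le (Submodule.span_le.2 (Set.insert_subset ?_ ?_)) le_sup_right))
      · exact Submodule.mem_sup_left (Submodule.mem_span_singleton_self _)
      · refine Set.singleton_subset_iff.2 (Submodule.mem_sup.2 ⟨(-(b⁻¹ * a)) • X,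
          Submodule.smul_mem _ _ (Submodule.mem_span_singleton_self _),
          b⁻¹ • (a • X + b • Y), Submodule.smul_mem _ _ hab, ?_⟩)
        rw [smul_add, smul_smul, smul_smul, inv_mul_cancel₀ hb]; module
  set D := x * Y - Y * x with hD
  have hMD : M ≤ Submodule.span F {D} ⊔ J ^ 5 := by
    rw [hM, Submodule.span_le]
    rintro _ ⟨u, hu, m, hm, rfl⟩
    obtain ⟨α, β, u₂, hu₂, rfl⟩ := hdec u hu
    obtain ⟨m₁, hm₁, m₄, hm₄, rfl⟩ := Submodule.mem_sup.1 (hJ3 hm)
    obtain ⟨γ, δ, rfl⟩ := Submodule.mem_span_pair.1 hm₁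
    have eXX : x * X - X * x ∈ J ^ 5 := by
      rw [hXdef, show x * (x * (y * x)) - x * (y * x) * x = x * x * (y * x) - x * y * (x * x) by noncomm_ring]
      exact sub_mem (mul_mem_pow hxx hyx2) (mul_mem_pow hxy2 hxx)
    have eYY : y * Y - Y * y ∈ J ^ 5 := by
      rw [hYdef, show y * (y * (x * y)) - y * (x * y) * y = y * y * (x * y) - y * x * (y * y) by noncomm_ring]
      exact sub_mem (mul_mem_pow hyy hxy2) (mul_mem_pow hyx2 hyy)
    have eYX : y * X - X * y = -D := by rw [hD, hXdef, hYdef]; noncomm_ring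
    rw [SetLike.mem_coe, show (α • x + β • y + u₂) * (γ • X + δ • Y + m₄) - (γ • X + δ • Y + m₄) * (α • x + β • y + u₂) =
      (α * δ) • D + (β * γ) • (y * X - X * y) + ((α * γ) • (x * X - X * x) + (β * δ) • (y * Y - Y * y) +
        ((α • x + β • y) * m₄ - m₄ * (α • x + β • y) +
          (u₂ * (γ • X + δ • Y + m₄) - (γ • X + δ • Y + m₄) * u₂))) by
      simp only [hD, add_mul, mul_add, smul_mul_assoc, mul_smul_comm, smul_add, smul_sub, smul_smul]; module,
      eYX]
    refine Submodule.mem_sup.2 ⟨(α * δ) • D + (β * γ) • -D, ?_, _, ?_, rfl⟩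
    · exact add_mem (Submodule.smul_mem _ _ (Submodule.mem_span_singleton_self _))
        (Submodule.smul_mem _ _ (neg_mem (Submodule.mem_span_singleton_self _)))
    · have hv : α • x + β • y ∈ J := add_mem (J.smul_mem α hx) (J.smul_mem β hy)
      have e1 := mul_mem_pow (mem_pow_one.2 hv) hm₄
      have e2 := mul_mem_pow hm₄ (mem_pow_one.2 hv)
      have e3 := mul_mem_pow hu₂ hm
      have e4 := mul_mem_pow hm hu₂
      exact add_mem (add_mem (Submodule.smul_mem _ _ eXX) (Submodule.smul_mem _ _ eYY))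
        (add_mem (sub_mem e1 e2) (sub_mem e3 e4))
  obtain ⟨w, hw⟩ : ∃ w, J ^ 4 ≤ Submodule.span F {w} ⊔ J ^ 5 := by
    rcases hfour with h4 | ⟨hz5, h3⟩
    · exact ⟨z, h4.trans le_sup_left⟩
    refine ⟨D, fun a ha => ?_⟩
    obtain ⟨k, hk, _, hr, rfl⟩ := Submodule.mem_sup.1 (h3 (pow_succ_le h (n := 3) (by omega) ha))
    obtain ⟨r, rfl⟩ := Submodule.mem_span_singleton.1 hr
    refine add_mem ?_ (Submodule.mem_sup_right (Submodule.smul_mem _ r hz5))
    have hk4 : k ∈ J ^ 4 := by
      have := sub_mem ha (Submodule.smul_mem (J ^ 4) r hz)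
      simpa using this
    obtain ⟨k₁, hk₁, k₂, hk₂, rfl⟩ := Submodule.mem_sup.1 (hcomms hk.1)
    obtain ⟨e, rfl⟩ := Submodule.mem_span_singleton.1 hk₁
    obtain ⟨k₃, hk₃, k₄, hk₄, rfl⟩ := Submodule.mem_sup.1 hk₂
    obtain ⟨a₁, a₂, rfl⟩ := Submodule.mem_span_pair.1 hk₃
    have hM4 : k₄ ∈ J ^ 4 := by
      have : M ≤ J ^ 4 := Submodule.span_le.2 (by
        rintro _ ⟨u, hu, m, hm, rfl⟩
        exact sub_mem (mul_mem_pow (mem_pow_one.2 hu) hm) (mul_mem_pow hm (mem_pow_one.2 hu)))
      exact this hk₄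
    have he : e = 0 := by
      by_contra he
      refine hc ((Submodule.smul_mem_iff _ he).1 ?_)
      have hg3 : a₁ • g₁ + a₂ • g₂ + k₄ ∈ J ^ 3 := add_mem (add_mem
        (Submodule.smul_mem _ _ (comm_mem_cube hx hxy2)) (Submodule.smul_mem _ _ (comm_mem_cube hy hxy2)))
        (pow_succ_le h (n := 3) (by omega) hM4)
      exact ((J ^ 3).add_mem_iff_left hg3).1 (pow_succ_le h (n := 3) (by omega) hk4)
    rw [he, zero_smul, zero_add] at hk4 ⊢
    have hg : a₁ • g₁ + a₂ • g₂ ∈ J ^ 4 := ((J ^ 4).add_mem_iff_left hM4).1 hk4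
    have hXY : (-a₁) • X + a₂ • Y ∈ J ^ 4 := by
      have e : (-a₁) • X + a₂ • Y = a₁ • g₁ + a₂ • g₂ - a₁ • (x * (x * y)) + a₂ • (x * y * y) := by
        rw [hg₁, hg₂, hXdef, hYdef, mul_assoc x y x]; module
      rw [e]
      exact add_mem (sub_mem hg (Submodule.smul_mem _ _ hxxy)) (Submodule.smul_mem _ _ hxyy)
    obtain ⟨h1, h2⟩ := hind _ _ hXY
    rw [neg_eq_zero.1 h1, h2, zero_smul, zero_smul, add_zero, zero_add]
    exact hMD hk₄
  have hcent := commute_of_step h (n := 4) (by omega) hw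
  have hM0 : M = ⊥ := by
    rw [hM, Submodule.span_eq_bot]
    rintro _ ⟨u, hu, m, hm, rfl⟩
    rw [hcent m hm u hu, sub_self]
  rw [hT, hM0, sup_bot_eq, ← Submodule.span_union] at hcomms
  refine (Submodule.finrank_mono hcomms).trans ((finrank_span_le_card _).trans ?_)
  rw [Set.toFinset_union, Set.toFinset_singleton, Set.toFinset_insert, Set.toFinset_singleton]
  exact (Finset.card_union_le _ _).trans (by
    rw [Finset.card_singleton]
    have := Finset.card_le_two (a := g₁) (b := g₂)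
    omega)

/-- **A nilpotent radical with a trace form whose commutators have codimension at most four has
dimension at most ten.** -/
theorem finrank_radical_le (h : Rad J s)
    (hdim : Module.finrank F J + 1 ≤ Module.finrank F (comms J) + 5) : Module.finrank F J ≤ 10 := by
  classical
  by_cases hcom : ∀ a ∈ J, ∀ b ∈ J, a * b = b * a
  · have : comms J = ⊥ := by
      rw [comms, Submodule.span_eq_bot]
      rintro _ ⟨a, ha, b, hb, rfl⟩
      rw [hcom a ha b hb, sub_self]
    rw [this, finrank_bot] at hdim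
    omega
  set L := Nat.find h.nil with hLdef
  have hL : J ^ (L + 1) = ⊥ := Nat.find_spec h.nil
  have hL2 : 2 ≤ L := by
    by_contra hlt
    refine hcom fun a ha b hb => ?_
    have h2 : J ^ 2 ≤ ⊥ := hL ▸ pow_anti h (by omega) (by omega)
    have := mul_mem_pow (mem_pow_one.2 ha) (mem_pow_one.2 hb)
    have := mul_mem_pow (mem_pow_one.2 hb) (mem_pow_one.2 ha)
    rw [(Submodule.mem_bot F).1 (h2 ‹a * b ∈ _›), (Submodule.mem_bot F).1 (h2 ‹b * a ∈ _›)]
  have hLne : J ^ L ≠ ⊥ := by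
    have := Nat.find_min h.nil (show L - 1 < L by omega)
    rwa [show L - 1 + 1 = L by omega] at this
  have hann : ∀ w ∈ J ^ L, ∀ y ∈ J, w * y = 0 := fun w hw y hy => by
    have := mul_mem_pow hw (mem_pow_one.2 hy)
    rwa [hL, Submodule.mem_bot] at this
  obtain ⟨z, hzL, hz0⟩ := Submodule.exists_mem_ne_zero_of_ne_bot hLne
  have hsz : s z ≠ 0 := fun h0 => hz0 (h.nd z (pow_le_rad h (by omega) hzL) h0 fun y hy => by
    rw [hann z hzL y hy, map_zero])
  have hsocle : ∀ a ∈ J, (∀ y ∈ J, a * y = 0) → a ∈ Submodule.span F {z} := fun a ha hay => by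
    refine Submodule.mem_span_singleton.2 ⟨s a / s z, (sub_eq_zero.1 (h.nd (a - (s a / s z) • z)
      (sub_mem ha (J.smul_mem _ (pow_le_rad h (by omega) hzL))) (by simp [hsz]) fun y hy => ?_)).symm⟩
    rw [sub_mul, hay y hy, smul_mul_assoc, hann z hzL y hy, smul_zero, sub_zero, map_zero]
  have hLspan : J ^ L ≤ Submodule.span F {z} := fun a ha =>
    hsocle a (pow_le_rad h (by omega) ha) (hann a ha)
  have hzn : ∀ n, 1 ≤ n → n ≤ L → z ∈ J ^ n := fun n h1 h2 => pow_anti h h1 h2 hzL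
  have hzC : z ∉ comms J := fun hz => hsz (trace_comms h hz)
  have hd1 : Module.finrank F (J ^ 1 : Submodule F A) = Module.finrank F J := by rw [pow_one]
  have hl1 : Module.finrank F (layer J 1) + Module.finrank F (J ^ 2 : Submodule F A) =
      Module.finrank F (J ^ 1 : Submodule F A) := finrank_layer h le_rfl
  have hl2 : Module.finrank F (layer J 2) + Module.finrank F (J ^ 3 : Submodule F A) =
      Module.finrank F (J ^ 2 : Submodule F A) := finrank_layer h (by omega)
  have hCC : comms J < J ^ 2 := lt_of_le_of_ne comms_le_sq fun e => hzC (e ▸ hzn 2 (by omega) hL2)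
  have hCd2 := Submodule.finrank_lt_finrank_of_lt hCC
  -- the number of generators
  obtain ⟨e, he⟩ : ∃ e, Module.finrank F (layer J 1) = e := ⟨_, rfl⟩
  obtain ⟨x, hx, hgen⟩ := exists_lifts (J := J) (n := 1) he
  have hxJ : ∀ i, x i ∈ J := fun i => mem_pow_one.1 (hx i)
  have hgen' : J ≤ Submodule.span F (Set.range x) ⊔ J ^ 2 := by simpa [pow_one] using hgen
  have he3 : e ≤ 3 := by omega
  have he2 : 2 ≤ e := by
    by_contra hlt
    obtain ⟨N, hN⟩ := h.nil
    refine hcom (CfsgLib.IBr.commute_of_generated h.sq (t := if he : 0 < e then x ⟨0, he⟩ else 0)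
      (by split_ifs <;> simp [hxJ]) ?_ hN)
    rw [← pow_two]
    refine hgen'.trans (sup_le_sup_right (Submodule.span_le.2 ?_) _)
    rintro _ ⟨i, rfl⟩
    have hpos : 0 < e := Fin.pos i
    rw [dif_pos hpos, show i = ⟨0, hpos⟩ from Fin.ext (show (i : ℕ) = 0 by omega)]
    exact Submodule.mem_span_singleton_self _
  -- a line in the second layer gives commutativity
  have hb2 : 2 ≤ Module.finrank F (layer J 2) := by
    by_contra hlt
    obtain ⟨w, hw⟩ := exists_step (J := J) (n := 2) le_rfl (show Module.finrank F (layer J 2) ≤ 1 by omega)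
    refine hcom fun a ha b hb => ?_
    exact commute_of_step h le_rfl hw a (mem_pow_one.2 ha) b hb
  -- a line in the third layer
  have hline3 : (∃ w, J ^ 3 ≤ Submodule.span F {w} ⊔ J ^ 4) → Module.finrank F J ≤ 10 := by
    rintro ⟨w, hw⟩
    have hcent := commute_of_step h (n := 3) (by omega) hw
    have h0 : comms' J = ⊥ := by
      rw [comms', Submodule.span_eq_bot]
      rintro _ ⟨a, ha, b, hb, rfl⟩
      rw [hcent b hb a ha, sub_self]
    have hC := comms_le_gen h hxJ hgen'
    rw [h0, sup_bot_eq] at hC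
    -- the commutators of `e ≤ 3` generators
    have hC' : comms J ≤ Submodule.span F (Set.range fun ij : {ij : Fin e × Fin e // ij.1 < ij.2} =>
        x ij.1.1 * x ij.1.2 - x ij.1.2 * x ij.1.1) := by
      refine hC.trans (Submodule.span_le.2 ?_)
      rintro _ ⟨⟨i, j⟩, rfl⟩
      rcases lt_trichotomy i j with hij | rfl | hij
      · exact Submodule.subset_span ⟨⟨(i, j), hij⟩, rfl⟩
      · simp
      · have := neg_mem (Submodule.subset_span (R := F) (Set.mem_range_self (f := fun ij : {ij : Fin e × Fin e // ij.1 < ij.2} =>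
            x ij.1.1 * x ij.1.2 - x ij.1.2 * x ij.1.1) ⟨(j, i), hij⟩))
        simpa using this
    have hcard := (Submodule.finrank_mono hC').trans (finrank_range_le_card _)
    have : Fintype.card {ij : Fin e × Fin e // ij.1 < ij.2} ≤ 3 := by
      have : e = 2 ∨ e = 3 := by omega
      generalize e = k at this
      rcases this with rfl | rfl <;> decide
    omega
  obtain ⟨g, gmu, gL, gR⟩ := exists_gr (J := J)
  have hlineg : g.Line → Module.finrank F J ≤ 10 := by
    rintro ⟨X, hX⟩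
    refine hline3 (exists_step (S := Submodule.span F {X}) ?_ ?_)
    · rintro _ ⟨a, ha, rfl⟩
      rw [SetLike.mem_coe, pow_succ' J 2] at ha
      refine Submodule.mul_induction_on ha (fun u hu m hm => ?_)
        (fun p q hp hq => by rw [map_add]; exact add_mem hp hq)
      rw [← gL u m (mem_pow_one.2 hu) hm]
      exact hX _ _
    · exact (finrank_span_le_card _).trans (by simp)
  by_cases hL3 : L ≤ 3
  · refine hline3 ⟨z, ?_⟩
    rcases hL3.eq_or_lt with h3 | h3
    · rw [← h3]; exact hLspan.trans le_sup_left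
    · have : J ^ 3 ≤ ⊥ := hL ▸ pow_anti h (by omega) (by omega)
      exact this.trans bot_le
  have hz4 : z ∈ J ^ 4 := hzn 4 (by omega) (by omega)
  by_cases hno3 : ∃ w, J ^ 3 ≤ Submodule.span F {w} ⊔ J ^ 4
  · exact hline3 hno3
  push Not at hno3
  -- the kernel of the functional test on the third layer
  have hB3 : J ^ 3 ≤ comms' J ⊔ J ^ 4 → ∀ Ψ : (A ⧸ J ^ 4) →ₗ[F] F,
      (∀ u m, Ψ (g.L u m) = Ψ (g.R m u)) → ∀ u m, Ψ (g.L u m) = 0 := by
    intro h3 Ψ hΨ u m
    obtain ⟨a, ha, rfl⟩ := exists_cls u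
    obtain ⟨b, hb, rfl⟩ := exists_cls m
    rw [gL]
    obtain ⟨k, hk, r, hr, hkr⟩ := Submodule.mem_sup.1 (h3 (mul_mem_pow ha hb))
    have hr0 : (J ^ 4).mkQ r = 0 := (Submodule.Quotient.mk_eq_zero _).2 hr
    rw [← hkr, map_add, hr0, add_zero]
    clear hkr
    induction hk using Submodule.span_induction with
    | mem w hw =>
      obtain ⟨p, hp, q, hq, rfl⟩ := hw
      rw [map_sub, map_sub, ← gL p q (mem_pow_one.2 hp) hq, ← gR p q (mem_pow_one.2 hp) hq, hΨ, sub_self]
    | zero => simp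
    | add p q _ _ hp hq => rw [map_add, map_add, hp, hq, add_zero]
    | smul r p _ hp => rw [map_smul, map_smul, hp, smul_zero]
  have hfun : ∀ {k : ℕ} (y : Fin k → A), (∀ i, y i ∈ J) → J ≤ Submodule.span F (Set.range y) ⊔ J ^ 2 →
      ∀ v : layer J 1, ∃ r : Fin k → F, ∃ (hm : (∑ i, r i • y i) ∈ J ^ 1), v = cls (∑ i, r i • y i) hm := by
    intro k y hy hgy v
    obtain ⟨a, ha, rfl⟩ := exists_cls v
    obtain ⟨a₁, ha₁, a₂, ha₂, rfl⟩ := Submodule.mem_sup.1 (hgy (mem_pow_one.1 ha))
    obtain ⟨r, rfl⟩ := (Submodule.mem_span_range_iff_exists_fun F).1 ha₁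
    refine ⟨r, mem_pow_one.2 (J.sum_mem fun i _ => J.smul_mem _ (hy i)), Subtype.ext ?_⟩
    exact (Submodule.Quotient.eq _).2 (by rw [add_sub_cancel_left]; exact ha₂)
  have hlayer2 : ∀ (f : layer J 2 →ₗ[F] F) (S : Submodule F A) (hSJ : S ≤ J ^ 2),
      J ^ 2 ≤ S ⊔ J ^ 3 → (∀ k (hk : k ∈ S), f (cls k (hSJ hk)) = 0) → f = 0 := by
    intro f S hSJ hle hf
    refine LinearMap.ext fun m => ?_
    obtain ⟨a, ha, rfl⟩ := exists_cls m
    obtain ⟨k, hk, r, hr, rfl⟩ := Submodule.mem_sup.1 (hle ha)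
    have : cls (k + r) ha = cls k (hSJ hk) := Subtype.ext ((Submodule.Quotient.eq _).2 (by
      rw [add_sub_cancel_left]; exact hr))
    rw [this, hf k hk, LinearMap.zero_apply]
  rcases he2.eq_or_lt with he2' | he2'
  · -- two generators
    obtain rfl : e = 2 := he2'.symm
    have key : ∀ a b : A, a ∈ J → b ∈ J → J ≤ Submodule.span F {a, b} ⊔ J ^ 2 →
        a * b - b * a ∉ J ^ 3 ∧ J ^ 3 ≤ (comms J ⊓ J ^ 3) ⊔ Submodule.span F {z} ∧
          comms J ⊓ J ^ 3 ≤ comms' J ∧ Module.finrank F (layer J 2) = 2 := by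
      intro a b ha hb hab
      set c := a * b - b * a with hc
      have hC : comms J ≤ Submodule.span F {c} ⊔ comms' J := by
        refine (comms_le_gen h (x := ![a, b]) (fun i => by fin_cases i <;> simp [ha, hb])
          (hab.trans (by rw [Matrix.range_cons, Matrix.range_cons, Matrix.range_empty, Set.union_empty,
            Set.singleton_union]))).trans (sup_le_sup_right (Submodule.span_le.2 ?_) _)
        rintro _ ⟨⟨i, j⟩, rfl⟩
        refine Submodule.mem_span_singleton.2 ?_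
        fin_cases i <;> fin_cases j
        · exact ⟨0, by simp⟩
        · exact ⟨1, by simp [hc]⟩
        · exact ⟨-1, by simp [hc]⟩
        · exact ⟨0, by simp⟩
      have hlt : comms J ⊓ J ^ 3 < J ^ 3 := lt_of_le_of_ne inf_le_right fun e =>
        hzC ((e.ge (hzn 3 (by omega) (by omega))).1)
      have hlt' := Submodule.finrank_lt_finrank_of_lt hlt
      have hc3 : c ∉ J ^ 3 := fun hc3 => by
        have hle : comms J ≤ comms J ⊓ J ^ 3 := le_inf le_rfl (hC.trans (sup_le
          ((Submodule.span_singleton_le_iff_mem _ _).2 hc3) comms'_le_cube))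
        have := Submodule.finrank_mono hle
        omega
      have hinf : comms J ⊓ J ^ 3 ≤ comms' J := by
        rintro k ⟨hk, hk3⟩
        obtain ⟨k₁, hk₁, k₂, hk₂, rfl⟩ := Submodule.mem_sup.1 (hC hk)
        obtain ⟨r, rfl⟩ := Submodule.mem_span_singleton.1 hk₁
        have hr : r = 0 := by
          by_contra hr
          exact hc3 ((Submodule.smul_mem_iff _ hr).1
            (((J ^ 3).add_mem_iff_left (comms'_le_cube hk₂)).1 hk3))
        rw [hr, zero_smul, zero_add]
        exact hk₂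
      have hdimC : Module.finrank F (comms J) ≤ 1 + Module.finrank F (comms J ⊓ J ^ 3 : Submodule F A) := by
        have h1 := Submodule.finrank_mono (hC.trans (sup_le_sup_left
          (le_inf (comms'_le_comms h) comms'_le_cube) _))
        have h2 := Submodule.finrank_add_le_finrank_add_finrank (Submodule.span F {c}) (comms J ⊓ J ^ 3)
        have h3 : Module.finrank F (Submodule.span F {c}) ≤ 1 := (finrank_span_le_card _).trans (by simp)
        omega
      refine ⟨hc3, ?_, hinf, by omega⟩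
      refine le_of_eq (Submodule.eq_of_le_of_finrank_le (sup_le inf_le_right
        ((Submodule.span_singleton_le_iff_mem _ _).2 (hzn 3 (by omega) (by omega)))) ?_).symm
      have hlt2 : comms J ⊓ J ^ 3 < (comms J ⊓ J ^ 3) ⊔ Submodule.span F {z} :=
        lt_of_le_of_ne le_sup_left fun e =>
          hzC ((e.ge (Submodule.mem_sup_right (Submodule.mem_span_singleton_self z))).1)
      have := Submodule.finrank_lt_finrank_of_lt hlt2
      omega
    have hr : Submodule.span F (Set.range x) = Submodule.span F {x 0, x 1} := by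
      congr 1; ext; simp [Fin.exists_fin_two, eq_comm]
    obtain ⟨hc3, h3, hinf, hQ⟩ := key (x 0) (x 1) (hxJ 0) (hxJ 1) (hr ▸ hgen')
    have hJ3 : J ^ 3 ≤ comms' J ⊔ J ^ 4 := h3.trans (sup_le (hinf.trans le_sup_left)
      (((Submodule.span_singleton_le_iff_mem _ _).2 hz4).trans le_sup_right))
    have hmu : ∀ f : layer J 2 →ₗ[F] F, (∀ a b, f (g.mu a b) = 0) → f = 0 := by
      intro f hf
      refine hlayer2 f (J ^ 2) le_rfl le_sup_left fun k hk => ?_
      have hk' : k ∈ J * J := by rwa [← pow_two]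
      obtain ⟨hk', hval⟩ : ∃ h : k ∈ J ^ 2, f (cls k h) = 0 := by
        refine Submodule.mul_induction_on hk' (fun u hu v hv => ⟨?_, ?_⟩) (fun p q hp hq => ?_)
        · rw [pow_two]; exact Submodule.mul_mem_mul hu hv
        · have h0 := hf (cls u (mem_pow_one.2 hu)) (cls v (mem_pow_one.2 hv))
          rw [gmu] at h0
          exact h0
        · obtain ⟨hp2, hp0⟩ := hp
          obtain ⟨hq2, hq0⟩ := hq
          refine ⟨add_mem hp2 hq2, ?_⟩
          rw [show cls (p + q) (add_mem hp2 hq2) = cls p hp2 + cls q hq2 from rfl, map_add, hp0, hq0, add_zero]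
      exact hval
    rcases g.two_generators hQ (x := cls (x 0) (hx 0)) (y := cls (x 1) (hx 1)) (fun v => by
        obtain ⟨r, hm, rfl⟩ := hfun x hxJ hgen' v
        exact ⟨r 0, r 1, Subtype.ext (by simp [cls, Fin.sum_univ_two, map_smul])⟩)
      hmu (hB3 hJ3) (fun e => hc3 (by
        rw [gmu, gmu] at e
        exact (Submodule.Quotient.eq _).1 (congrArg Subtype.val e))) with hl | ⟨x', y', hsp, hxx, hyy⟩
    · exact hlineg hl
    obtain ⟨a, ha, rfl⟩ := exists_cls x'
    obtain ⟨b, hb, rfl⟩ := exists_cls y'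
    rw [gmu, cls_eq_zero] at hxx hyy
    have hab : J ≤ Submodule.span F {a, b} ⊔ J ^ 2 := fun u hu => by
      obtain ⟨r, r', hv⟩ := hsp (cls u (mem_pow_one.2 hu))
      refine Submodule.mem_sup.2 ⟨r • a + r' • b, Submodule.mem_span_pair.2 ⟨r, r', rfl⟩,
        u - (r • a + r' • b), ?_, add_sub_cancel _ _⟩
      refine (Submodule.Quotient.eq _).1 (Eq.trans (congrArg Subtype.val hv) ?_)
      simp [cls]
    obtain ⟨hc', h3', -, -⟩ := key a b (mem_pow_one.1 ha) (mem_pow_one.1 hb) hab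
    have := finrank_comms_le_of_squares h (mem_pow_one.1 ha) (mem_pow_one.1 hb) hab hxx hyy hc' hno3 hz4
      (by
        rcases (show L = 4 ∨ 5 ≤ L by omega) with h4 | h5
        · exact Or.inl (h4 ▸ hLspan)
        · exact Or.inr ⟨hzn 5 (by omega) h5, h3'⟩)
    omega
  -- three generators
  obtain rfl : e = 3 := by omega
  set c₀₁ := x 0 * x 1 - x 1 * x 0 with hc01
  set c₀₂ := x 0 * x 2 - x 2 * x 0 with hc02
  set c₁₂ := x 1 * x 2 - x 2 * x 1 with hc12
  set S := Submodule.span F ({c₀₁, c₀₂, c₁₂} : Set A) with hS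
  have hC : comms J ≤ S ⊔ comms' J := by
    refine (comms_le_gen h hxJ hgen').trans (sup_le_sup_right (Submodule.span_le.2 ?_) _)
    rintro _ ⟨⟨i, j⟩, rfl⟩
    have m01 : c₀₁ ∈ S := Submodule.subset_span (by simp)
    have m02 : c₀₂ ∈ S := Submodule.subset_span (by simp)
    have m12 : c₁₂ ∈ S := Submodule.subset_span (by simp)
    fin_cases i <;> fin_cases j <;>
      first
      | exact m01
      | exact m02
      | exact m12
      | (show _ - _ ∈ S; rw [sub_self]; exact S.zero_mem)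
      | (show _ - _ ∈ S; rw [← neg_sub]; first | exact neg_mem m01 | exact neg_mem m02 | exact neg_mem m12)
  have hSJ : S ≤ J ^ 2 := Submodule.span_le.2 (by
    rintro _ (rfl | rfl | rfl)
    · exact comm_mem_sq (hxJ 0) (hxJ 1)
    · exact comm_mem_sq (hxJ 0) (hxJ 2)
    · exact comm_mem_sq (hxJ 1) (hxJ 2))
  have hSdim : Module.finrank F S ≤ 3 := by
    refine (finrank_span_le_card _).trans ?_
    rw [Set.toFinset_insert, Set.toFinset_insert, Set.toFinset_singleton]
    exact Finset.card_le_three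
  have hsq : comms J ⊔ Submodule.span F {z} = J ^ 2 := by
    refine Submodule.eq_of_le_of_finrank_le (sup_le comms_le_sq
      ((Submodule.span_singleton_le_iff_mem _ _).2 (hzn 2 (by omega) hL2))) ?_
    have hlt : comms J < comms J ⊔ Submodule.span F {z} := lt_of_le_of_ne le_sup_left fun e =>
      hzC (e.ge (Submodule.mem_sup_right (Submodule.mem_span_singleton_self z)))
    have := Submodule.finrank_lt_finrank_of_lt hlt
    omega
  have hz3 : z ∈ J ^ 3 := hzn 3 (by omega) (by omega)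
  have hJ2 : J ^ 2 ≤ S ⊔ J ^ 3 := hsq ▸ sup_le (hC.trans (sup_le_sup_left comms'_le_cube _))
    (((Submodule.span_singleton_le_iff_mem _ _).2 hz3).trans le_sup_right)
  have hr2 := LinearMap.finrank_range_add_finrank_ker ((J ^ 3).mkQ ∘ₗ S.subtype)
  have hrange2 : LinearMap.range ((J ^ 3).mkQ ∘ₗ S.subtype) = layer J 2 := by
    rw [LinearMap.range_comp, Submodule.range_subtype]
    refine le_antisymm (Submodule.map_mono hSJ) ((Submodule.map_mono hJ2).trans ?_)
    have hk3 : (J ^ 3).map (J ^ 3).mkQ = ⊥ := Submodule.mkQ_map_self _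
    rw [Submodule.map_sup, hk3, sup_bot_eq]
  rw [hrange2] at hr2
  have hQ3 : Module.finrank F (layer J 2) ≤ 3 :=
    le_trans (Nat.le_add_right _ _) (hr2.trans_le hSdim)
  have hcomm : g.Comm := by
    intro f hf
    refine hlayer2 f S hSJ hJ2 fun k hk => ?_
    have hgmu : ∀ i j, f (cls (x i * x j - x j * x i) (comm_mem_sq (hxJ i) (hxJ j))) = 0 := fun i j => by
      have h0 := hf (cls (x i) (hx i)) (cls (x j) (hx j))
      rw [gmu, gmu] at h0
      rw [show cls (x i * x j - x j * x i) (comm_mem_sq (hxJ i) (hxJ j)) =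
        cls (x i * x j) (mul_mem_pow (hx i) (hx j)) - cls (x j * x i) (mul_mem_pow (hx j) (hx i)) from
        Subtype.ext (map_sub _ _ _), map_sub, h0, sub_self]
    let f' : (J ^ 2 : Submodule F A) →ₗ[F] F := f ∘ₗ LinearMap.codRestrict (layer J 2)
      ((J ^ 3).mkQ ∘ₗ (J ^ 2).subtype) (fun a => Submodule.mem_map_of_mem a.2)
    have hle : S ≤ (LinearMap.ker f').map (J ^ 2).subtype := by
      rw [hS, Submodule.span_le]
      rintro _ (rfl | rfl | rfl)
      · exact ⟨⟨_, comm_mem_sq (hxJ 0) (hxJ 1)⟩, hgmu 0 1, rfl⟩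
      · exact ⟨⟨_, comm_mem_sq (hxJ 0) (hxJ 2)⟩, hgmu 0 2, rfl⟩
      · exact ⟨⟨_, comm_mem_sq (hxJ 1) (hxJ 2)⟩, hgmu 1 2, rfl⟩
    obtain ⟨⟨k', hk'⟩, hk0, rfl⟩ := hle hk
    exact hk0
  rcases g.line_or_surjective hcomm he hb2 hQ3 with hl | ⟨tt, ht, ht'⟩
  · exact hlineg hl
  rcases hb2.eq_or_lt with hb | hb
  · exact hlineg (Gr.line_of_iso_two hcomm he hb.symm ht ht')
  have hQ : Module.finrank F (layer J 2) = 3 := by omega
  have hS3 : S ⊓ J ^ 3 ≤ ⊥ := by
    rintro k ⟨hk, hk3⟩
    have h33 : 3 + Module.finrank F (LinearMap.ker ((J ^ 3).mkQ ∘ₗ S.subtype)) ≤ 3 :=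
      ((congrArg (· + _) hQ).symm.trans hr2).trans_le hSdim
    have hker : LinearMap.ker ((J ^ 3).mkQ ∘ₗ S.subtype) = ⊥ := Submodule.finrank_eq_zero.1 (by omega)
    have hmem : (⟨k, hk⟩ : S) ∈ LinearMap.ker ((J ^ 3).mkQ ∘ₗ S.subtype) :=
      (Submodule.Quotient.mk_eq_zero _).2 hk3
    rw [hker, Submodule.mem_bot] at hmem
    exact (Submodule.mem_bot F).2 (congrArg Subtype.val hmem)
  have hJ3 : J ^ 3 ≤ comms' J ⊔ J ^ 4 := by
    intro a ha
    obtain ⟨k, hk, r, hr, rfl⟩ := Submodule.mem_sup.1 (hsq.ge (pow_succ_le h (n := 2) (by omega) ha))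
    have hr3 : r ∈ J ^ 3 := (Submodule.span_singleton_le_iff_mem _ _).2 hz3 hr
    obtain ⟨k₁, hk₁, k₂, hk₂, rfl⟩ := Submodule.mem_sup.1 (hC hk)
    have hk13 : k₁ ∈ J ^ 3 := by
      have h' := sub_mem (sub_mem ha hr3) (comms'_le_cube hk₂)
      simpa using h'
    rw [(Submodule.mem_bot F).1 (hS3 ⟨hk₁, hk13⟩), zero_add]
    exact add_mem (Submodule.mem_sup_left hk₂)
      (Submodule.mem_sup_right ((Submodule.span_singleton_le_iff_mem _ _).2 hz4 hr))
  obtain ⟨t, htm, rfl⟩ := exists_cls tt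
  have htJ := mem_pow_one.1 htm
  have hleft : ∀ m ∈ J ^ 2, ∃ w ∈ J, m - t * w ∈ J ^ 3 := fun m hm => by
    obtain ⟨w, hw⟩ := ht (cls m hm)
    obtain ⟨w, hw', rfl⟩ := exists_cls w
    rw [gmu] at hw
    exact ⟨w, mem_pow_one.1 hw', (Submodule.Quotient.eq _).1 (congrArg Subtype.val hw.symm)⟩
  have hright : ∀ u ∈ J, ∃ u' ∈ J, t * u - u' * t ∈ J ^ 3 := fun u hu => by
    obtain ⟨w, hw⟩ := ht' (cls (t * u) (mul_mem_pow htm (mem_pow_one.2 hu)))
    obtain ⟨w, hw', rfl⟩ := exists_cls w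
    rw [LinearMap.flip_apply, gmu] at hw
    exact ⟨w, mem_pow_one.1 hw', (Submodule.Quotient.eq _).1 (congrArg Subtype.val hw.symm)⟩
  have hup : ∀ k, 1 ≤ k → ∀ u ∈ J, ∀ m ∈ J ^ k,
      u * (t * m) ∈ (J ^ (k + 1)).map (LinearMap.mulLeft F t) ⊔ J ^ (k + 3) := by
    intro k hk u hu m hm
    obtain ⟨u', hu', hdiff⟩ := hleft (u * t) (mul_mem_pow (mem_pow_one.2 hu) htm)
    refine Submodule.mem_sup.2 ⟨t * (u' * m), ⟨u' * m, ?_, rfl⟩, (u * t - t * u') * m, ?_,
      by noncomm_ring⟩
    · rw [add_comm]; exact mul_mem_pow (mem_pow_one.2 hu') hm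
    · rw [add_comm k 3]; exact mul_mem_pow hdiff hm
  have hJ3t : J ^ 3 ≤ (J ^ 2).map (LinearMap.mulLeft F t) ⊔ J ^ 4 := by
    rw [pow_succ' J 2, Submodule.mul_le]
    intro u hu m hm
    obtain ⟨w, hw, hdiff⟩ := hleft m hm
    rw [show u * m = u * (t * w) + u * (m - t * w) by noncomm_ring]
    exact add_mem (hup 1 le_rfl u hu w (mem_pow_one.2 hw))
      (Submodule.mem_sup_right (mul_mem_pow (mem_pow_one.2 hu) hdiff))
  have hJ4t : J ^ 4 ≤ (J ^ 3).map (LinearMap.mulLeft F t) ⊔ J ^ 5 := by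
    rw [pow_succ' J 3, Submodule.mul_le]
    intro u hu m hm
    obtain ⟨_, ⟨w, hw, rfl⟩, m', hm', rfl⟩ := Submodule.mem_sup.1 (hJ3t hm)
    rw [mul_add]
    exact add_mem (hup 2 (by omega) u hu w hw) (Submodule.mem_sup_right (mul_mem_pow (mem_pow_one.2 hu) hm'))
  have hrange3 : layer J 3 ≤ LinearMap.range (g.L (cls t htm)) := by
    rintro _ ⟨a, ha, rfl⟩
    obtain ⟨_, ⟨w, hw, rfl⟩, r, hr, rfl⟩ := Submodule.mem_sup.1 (hJ3t ha)
    refine ⟨cls w hw, ?_⟩
    rw [gL]
    exact ((Submodule.Quotient.eq _).2 (by simpa using neg_mem hr))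
  by_cases h4 : ∃ w, J ^ 4 ≤ Submodule.span F {w} ⊔ J ^ 5
  · -- the cube is central and kills the square
    obtain ⟨w, hw⟩ := h4
    have hcent := commute_of_step h (n := 4) (by omega) hw
    have hkill : ∀ a ∈ J ^ 3, ∀ m ∈ J ^ 2, a * m = 0 := by
      intro a ha
      have haJ := pow_le_rad h (by omega) ha
      have hsm : ∀ m ∈ J ^ 2, s (a * m) = 0 := by
        intro m hm
        obtain ⟨k, hk, r, hr, rfl⟩ := Submodule.mem_sup.1 (hsq.ge hm)
        obtain ⟨r, rfl⟩ := Submodule.mem_span_singleton.1 hr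
        have hzero : a * z = 0 := by
          have := mul_mem_pow (mem_pow_one.2 haJ) hzL
          rwa [add_comm, hL, Submodule.mem_bot] at this
        rw [mul_add, mul_smul_comm, hzero, smul_zero, add_zero]
        clear hm
        induction hk using Submodule.span_induction with
        | mem w hw =>
          obtain ⟨p, hp, q, hq, rfl⟩ := hw
          rw [mul_sub, map_sub, ← mul_assoc, ← mul_assoc, hcent a ha p hp, mul_assoc,
            h.comm p hp (a * q) (h.sq (Submodule.mul_mem_mul haJ hq)), sub_self]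
        | zero => simp
        | add p q _ _ hp hq => rw [mul_add, map_add, hp, hq, add_zero]
        | smul r p _ hp => rw [mul_smul_comm, map_smul, hp, smul_zero]
      intro m hm
      refine h.nd _ (h.sq (Submodule.mul_mem_mul haJ (pow_le_rad h (by omega) hm))) (hsm m hm)
        fun y hy => ?_
      rw [mul_assoc]
      exact hsm _ (pow_succ_le h (n := 2) (by omega) (mul_mem_pow hm (mem_pow_one.2 hy)))
    -- the pairing with the generators
    let P : (J ^ 3 : Submodule F A) →ₗ[F] (Fin 3 → F) :=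
      LinearMap.pi fun i => s ∘ₗ LinearMap.mulRight F (x i) ∘ₗ (J ^ 3).subtype
    have hP : ∀ a : (J ^ 3 : Submodule F A), P a = 0 → (a : A) ∈ Submodule.span F {z} := by
      rintro ⟨a, ha⟩ hPa
      have haJ := pow_le_rad h (by omega) ha
      have hsy : ∀ y ∈ J, s (a * y) = 0 := by
        intro y hy
        obtain ⟨y₁, hy₁, y₂, hy₂, rfl⟩ := Submodule.mem_sup.1 (hgen' hy)
        rw [mul_add, hkill a ha y₂ hy₂, add_zero]
        clear hy
        induction hy₁ using Submodule.span_induction with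
        | mem w hw => obtain ⟨i, rfl⟩ := hw; exact congrFun hPa i
        | zero => simp
        | add p q _ _ hp hq => rw [mul_add, map_add, hp, hq, add_zero]
        | smul r p _ hp => rw [mul_smul_comm, map_smul, hp, smul_zero]
      exact hsocle a haJ fun y hy => h.nd _ (h.sq (Submodule.mul_mem_mul haJ hy)) (hsy y hy)
        fun y' hy' => by rw [mul_assoc]; exact hsy _ (h.sq (Submodule.mul_mem_mul hy hy'))
    have hd3 : Module.finrank F (J ^ 3 : Submodule F A) ≤ 4 := by
      have h1 := LinearMap.finrank_range_add_finrank_ker P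
      have h2 : Module.finrank F (LinearMap.range P) ≤ 3 := by
        refine (Submodule.finrank_le _).trans ?_
        simp
      have h3 : Module.finrank F (LinearMap.ker P) ≤ 1 := by
        rw [← Submodule.finrank_map_subtype_eq]
        refine (Submodule.finrank_mono (?_ : _ ≤ Submodule.span F {z})).trans
          ((finrank_span_le_card _).trans (by simp))
        rintro _ ⟨a, ha, rfl⟩
        exact hP a ha
      omega
    omega
  exfalso
  have hl4 : 2 ≤ Module.finrank F (layer J 4) := by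
    by_contra hlt
    exact h4 (exists_step (n := 4) le_rfl (by omega))
  let f : (A ⧸ J ^ 4) →ₗ[F] (A ⧸ J ^ 5) := (J ^ 4).mapQ (J ^ 5) (LinearMap.mulLeft F t) fun a ha => by
    rw [Submodule.mem_comap, show (5 : ℕ) = 1 + 4 from rfl]
    exact mul_mem_pow htm ha
  have hf : ∀ a, f ((J ^ 4).mkQ a) = (J ^ 5).mkQ (t * a) := fun a => rfl
  have hle4 : layer J 4 ≤ LinearMap.range (f ∘ₗ (layer J 3).subtype) := by
    rintro _ ⟨a, ha, rfl⟩
    obtain ⟨_, ⟨w, hw, rfl⟩, r, hr, rfl⟩ := Submodule.mem_sup.1 (hJ4t ha)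
    refine ⟨⟨_, Submodule.mem_map_of_mem hw⟩, ?_⟩
    show f ((J ^ 4).mkQ w) = _
    rw [hf]
    exact ((Submodule.Quotient.eq _).2 (by simpa using neg_mem hr))
  have hn43 := Submodule.finrank_mono hle4
  have hrk3 : Module.finrank F (LinearMap.range (f ∘ₗ (layer J 3).subtype)) +
      Module.finrank F (LinearMap.ker (f ∘ₗ (layer J 3).subtype)) =
      Module.finrank F (layer J 3) :=
    LinearMap.finrank_range_add_finrank_ker (f ∘ₗ (layer J 3).subtype)
  have hn3 := Submodule.finrank_mono hrange3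
  have hrkL : Module.finrank F (LinearMap.range (g.L (cls t htm))) +
      Module.finrank F (LinearMap.ker (g.L (cls t htm))) = 3 :=
    (LinearMap.finrank_range_add_finrank_ker _).trans hQ
  refine Gr.false_of_iso_three hcomm he hQ ht ht' (fun m hm => ?_) (fun h0 => ?_) (hB3 hJ3)
  · by_cases hm0 : m = 0
    · subst hm0; exact ⟨by simp, by simp⟩
    have hkpos : 1 ≤ Module.finrank F (LinearMap.ker (g.L (cls t htm))) :=
      Submodule.one_le_finrank_iff.2 ((Submodule.ne_bot_iff _).2 ⟨m, hm, hm0⟩)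
    have hle2 : Module.finrank F (LinearMap.range (g.L (cls t htm))) ≤ 2 := by omega
    have hker : LinearMap.ker (f ∘ₗ (layer J 3).subtype) = ⊥ := by
      refine Submodule.finrank_eq_zero.1 ?_
      have e1 := hn3.trans hle2
      have e2 := hl4.trans hn43
      exact (fun {i j k : ℕ} (h1 : i + j = k) (h2 : k ≤ 2) (h3 : 2 ≤ i) => (by omega : j = 0)) hrk3 e1 e2
    obtain ⟨a, ha, rfl⟩ := exists_cls m
    rw [gL] at hm
    have hta : t * a ∈ J ^ 4 := (Submodule.Quotient.mk_eq_zero _).1 hm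
    have hinj : ∀ b ∈ J ^ 3, t * b ∈ J ^ 5 → (J ^ 4).mkQ b = 0 := fun b hb htb => by
      have hmem : (⟨_, Submodule.mem_map_of_mem hb⟩ : layer J 3) ∈
          LinearMap.ker (f ∘ₗ (layer J 3).subtype) := (Submodule.Quotient.mk_eq_zero _).2 htb
      rw [hker, Submodule.mem_bot] at hmem
      exact congrArg Subtype.val hmem
    refine ⟨fun w => ?_, fun u => ?_⟩
    · obtain ⟨w, hw, rfl⟩ := exists_cls w
      rw [gR]
      refine hinj _ (mul_mem_pow ha hw) ?_
      rw [← mul_assoc]
      exact mul_mem_pow hta hw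
    · obtain ⟨u, hu, rfl⟩ := exists_cls u
      rw [gL]
      refine hinj _ (mul_mem_pow hu ha) ?_
      obtain ⟨u', hu', hdiff⟩ := hright u (mem_pow_one.1 hu)
      rw [show t * (u * a) = (t * u - u' * t) * a + u' * (t * a) by noncomm_ring]
      exact add_mem (mul_mem_pow hdiff ha) (mul_mem_pow (mem_pow_one.2 hu') hta)
  · have hzero : layer J 3 ≤ (⊥ : Submodule F (A ⧸ J ^ 4)) := hrange3.trans (by rw [h0, LinearMap.range_zero])
    obtain ⟨w, hw⟩ := exists_step (n := 3) hzero (by simp)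
    exact hno3 w hw

end CfsgLib.SmallCenter
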