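import Mathlib.Algebra.Algebra.Operations
import Mathlib.LinearAlgebra.FiniteDimensional.Lemmas
import Mathlib.Tactic.NoncommRing

/-!
# A layer of dimension one in a local symmetric algebra makes the layer before it central

If `J ^ n ≤ k w + J ^ (n + 1)` then `J ^ n` is spanned by powers of one element, and the elements
of `J ^ (n - 1)` commute with `J`.
-/

set_option autoImplicit false

namespace CfsgLib.SmallCenter

variable {F A : Type*} [Field F] [Ring A] [Algebra F A]

/-- Nilpotent radical with a trace form without radical. -/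
structure Rad (J : Submodule F A) (s : A →ₗ[F] F) : Prop where
  sq : J * J ≤ J
  nil : ∃ N, J ^ (N + 1) = ⊥
  comm : ∀ a ∈ J, ∀ b ∈ J, s (a * b) = s (b * a)
  nd : ∀ a ∈ J, s a = 0 → (∀ y ∈ J, s (a * y) = 0) → a = 0

variable {J : Submodule F A} {s : A →ₗ[F] F}

theorem mul_mem_pow {i j : ℕ} {a b : A} (ha : a ∈ J ^ i) (hb : b ∈ J ^ j) : a * b ∈ J ^ (i + j) := by
  rw [pow_add]; exact Submodule.mul_mem_mul ha hb

theorem mem_pow_one {a : A} : a ∈ J ^ 1 ↔ a ∈ J := by rw [pow_one]

theorem pow_succ_le (h : Rad J s) {n : ℕ} (hn : 1 ≤ n) : J ^ (n + 1) ≤ J ^ n := by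
  obtain ⟨m, rfl⟩ := Nat.exists_eq_add_of_le' hn
  rw [pow_succ, pow_succ, mul_assoc]
  exact mul_le_mul' le_rfl h.sq

theorem pow_anti (h : Rad J s) {n m : ℕ} (hn : 1 ≤ n) (hm : n ≤ m) : J ^ m ≤ J ^ n := by
  induction m, hm using Nat.le_induction with
  | base => exact le_rfl
  | succ m hm ih => exact (pow_succ_le h (hn.trans hm)).trans ih

theorem pow_le_rad (h : Rad J s) {n : ℕ} (hn : 1 ≤ n) : J ^ n ≤ J :=
  (pow_anti h le_rfl hn).trans (pow_one J).le

theorem eq_bot_of_le_succ (h : Rad J s) {n : ℕ} (hn : 1 ≤ n) (hle : J ^ n ≤ J ^ (n + 1)) : J ^ n = ⊥ := by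
  obtain ⟨N, hN⟩ := h.nil
  have : ∀ k, J ^ n ≤ J ^ (n + k) := fun k => by
    induction k with
    | zero => exact le_rfl
    | succ k ih =>
      refine hle.trans ?_
      rw [pow_succ, ← add_assoc, pow_succ J (n + k)]
      exact mul_le_mul' ih le_rfl
  refine eq_bot_iff.2 ((this (N + 1)).trans ?_)
  rw [pow_add, hN, Submodule.mul_bot]

theorem pow_ne_bot_of_lt {L : ℕ} (hL : J ^ L ≠ ⊥) {n : ℕ} (hn : n ≤ L) : J ^ n ≠ ⊥ := by
  intro h
  obtain ⟨k, rfl⟩ := Nat.exists_eq_add_of_le hn
  exact hL (by rw [pow_add, h, Submodule.bot_mul])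

/-- The layer after a layer of dimension one is generated by powers. -/
theorem exists_power_step (h : Rad J s) {n : ℕ} (hn : 1 ≤ n) {w : A}
    (hstep : J ^ n ≤ Submodule.span F {w} ⊔ J ^ (n + 1)) (hne : J ^ (n + 1) ≠ ⊥) :
    ∃ t ∈ J, ∀ m, n ≤ m → J ^ m ≤ Submodule.span F {t ^ m} ⊔ J ^ (m + 1) := by
  obtain ⟨x, hx, hwx⟩ : ∃ x ∈ J, w * x ∉ J ^ (n + 2) := by
    by_contra hall
    push Not at hall
    refine hne (eq_bot_of_le_succ h (by omega) ?_)
    rw [pow_succ, show n + 1 + 1 = n + 2 from rfl, Submodule.mul_le]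
    intro a ha b hb
    obtain ⟨_, hw, q, hq, rfl⟩ := Submodule.mem_sup.1 (hstep ha)
    obtain ⟨r, rfl⟩ := Submodule.mem_span_singleton.1 hw
    rw [add_mul, smul_mul_assoc]
    have := mul_mem_pow hq (mem_pow_one.2 hb)
    exact add_mem (Submodule.smul_mem _ r (hall b hb)) this
  refine ⟨x, hx, ?_⟩
  have hxn : x ^ n ∈ J ^ n := Submodule.pow_mem_pow J hx n
  have hnot : x ^ n ∉ J ^ (n + 1) := by
    intro hmem
    have key : ∀ j, j ≤ n → ∀ b ∈ J ^ j, b * x ^ (n - j) ∈ J ^ (n + 1) := by
      intro j
      induction j with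
      | zero =>
        intro _ b hb
        rw [pow_zero, Submodule.mem_one] at hb
        obtain ⟨r, rfl⟩ := hb
        rw [Nat.sub_zero, ← Algebra.smul_def]
        exact Submodule.smul_mem _ r hmem
      | succ j ih =>
        intro hj b hb
        rw [pow_succ'] at hb
        refine Submodule.mul_induction_on hb (fun v hv b' hb' => ?_) (fun a b ha hb => ?_)
        · have hP : v * b' * x ^ (n - (j + 1)) ∈ J ^ n := by
            have := mul_mem_pow (mul_mem_pow (mem_pow_one.2 hv) hb') (Submodule.pow_mem_pow J hx (n - (j + 1)))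
            rwa [show 1 + j + (n - (j + 1)) = n by omega] at this
          have hPx : v * b' * x ^ (n - (j + 1)) * x ∈ J ^ (n + 2) := by
            have := mul_mem_pow (mem_pow_one.2 hv) (ih (by omega) b' hb')
            rw [show 1 + (n + 1) = n + 2 by omega] at this
            rwa [mul_assoc, ← pow_succ, show n - (j + 1) + 1 = n - j by omega, mul_assoc]
          obtain ⟨_, hw, q, hq, hsum⟩ := Submodule.mem_sup.1 (hstep hP)
          obtain ⟨r, rfl⟩ := Submodule.mem_span_singleton.1 hw
          rw [← hsum, add_mul, smul_mul_assoc] at hPx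
          have hqx := mul_mem_pow hq (mem_pow_one.2 hx)
          have : r • (w * x) ∈ J ^ (n + 2) := ((J ^ (n + 2)).add_mem_iff_left hqx).1 hPx
          have hr : r = 0 := by
            by_contra hr
            exact hwx ((Submodule.smul_mem_iff _ hr).1 this)
          rw [← hsum, hr, zero_smul, zero_add]
          exact hq
        · rw [add_mul]; exact add_mem ha hb
    refine pow_ne_bot_of_lt hne (by omega) (eq_bot_of_le_succ h hn fun b hb => ?_)
    simpa using key n le_rfl b hb
  intro m hm
  induction m, hm using Nat.le_induction with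
  | base =>
    refine hstep.trans (sup_le ((Submodule.span_singleton_le_iff_mem _ _).2 ?_) le_sup_right)
    obtain ⟨_, hw, q, hq, hsum⟩ := Submodule.mem_sup.1 (hstep hxn)
    obtain ⟨r, rfl⟩ := Submodule.mem_span_singleton.1 hw
    have hr : r ≠ 0 := by
      rintro rfl
      rw [zero_smul, zero_add] at hsum
      exact hnot (hsum ▸ hq)
    refine Submodule.mem_sup.2 ⟨r⁻¹ • x ^ n, Submodule.smul_mem _ _ (Submodule.mem_span_singleton_self _),
      -(r⁻¹ • q), neg_mem (Submodule.smul_mem _ _ hq), ?_⟩
    rw [← hsum, smul_add, smul_smul, inv_mul_cancel₀ hr, one_smul, add_neg_cancel_right]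
  | succ m hm ih =>
    rw [pow_succ', Submodule.mul_le]
    intro u hu b hb
    obtain ⟨_, hw, q, hq, rfl⟩ := Submodule.mem_sup.1 (ih hb)
    obtain ⟨r, rfl⟩ := Submodule.mem_span_singleton.1 hw
    rw [mul_add, mul_smul_comm]
    refine add_mem (Submodule.smul_mem _ r ?_)
      (Submodule.mem_sup_right (by rw [show m + 1 + 1 = 1 + (m + 1) by omega]; exact mul_mem_pow (mem_pow_one.2 hu) hq))
    obtain ⟨m', rfl⟩ : ∃ m', m = m' + 1 := ⟨m - 1, by omega⟩
    have hum : u * x ^ m' ∈ J ^ (m' + 1) := by
      rw [add_comm]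
      exact mul_mem_pow (mem_pow_one.2 hu) (Submodule.pow_mem_pow J hx m')
    obtain ⟨_, hw, q', hq', hsum⟩ := Submodule.mem_sup.1 (ih hum)
    obtain ⟨r', rfl⟩ := Submodule.mem_span_singleton.1 hw
    rw [pow_succ x m', ← mul_assoc, ← hsum, add_mul, smul_mul_assoc, ← pow_succ]
    have hqx := mul_mem_pow hq' (mem_pow_one.2 hx)
    exact add_mem (Submodule.smul_mem _ r' (Submodule.mem_sup_left (Submodule.mem_span_singleton_self _)))
      (Submodule.mem_sup_right hqx)

/-- **The layer before a layer of dimension one is central.** -/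
theorem commute_of_step (h : Rad J s) {n : ℕ} (hn : 2 ≤ n) {w : A}
    (hstep : J ^ n ≤ Submodule.span F {w} ⊔ J ^ (n + 1)) :
    ∀ a ∈ J ^ (n - 1), ∀ x ∈ J, a * x = x * a := by
  suffices key : ∀ a ∈ J ^ (n - 1), ∀ x ∈ J, ∀ y ∈ J, a * (x * y - y * x) = 0 by
    intro a ha x hx
    have haJ : a ∈ J := pow_le_rad h (by omega) ha
    rw [← sub_eq_zero]
    refine h.nd _ (sub_mem (h.sq (Submodule.mul_mem_mul haJ hx)) (h.sq (Submodule.mul_mem_mul hx haJ)))
      (by rw [map_sub, h.comm a haJ x hx, sub_self]) fun y hy => ?_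
    rw [sub_mul, map_sub, mul_assoc, mul_assoc, h.comm x hx (a * y) (h.sq (Submodule.mul_mem_mul haJ hy)),
      ← map_sub, mul_assoc, ← mul_sub, key a ha x hx y hy, map_zero]
  by_cases hne : J ^ (n + 1) = ⊥
  · intro a ha x hx y hy
    have hc : x * y - y * x ∈ J ^ 2 := by
      rw [pow_two]; exact sub_mem (Submodule.mul_mem_mul hx hy) (Submodule.mul_mem_mul hy hx)
    have := mul_mem_pow ha hc
    rwa [show n - 1 + 2 = n + 1 by omega, hne, Submodule.mem_bot] at this
  classical
  obtain ⟨t, ht, hpow⟩ := exists_power_step h (by omega) hstep hne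
  set L := Nat.find h.nil with hLdef
  have hL : J ^ (L + 1) = ⊥ := Nat.find_spec h.nil
  have hnL : n + 1 ≤ L := by
    by_contra hlt
    refine hne (eq_bot_iff.2 ?_)
    rw [← hL]
    exact pow_anti h (by omega) (by omega)
  have hLne : J ^ L ≠ ⊥ := by
    have := Nat.find_min h.nil (show L - 1 < L by omega)
    rwa [show L - 1 + 1 = L by omega] at this
  have htJ : ∀ i, 1 ≤ i → t ^ i ∈ J := fun i hi => pow_le_rad h hi (Submodule.pow_mem_pow J ht i)
  have hsL : s (t ^ L) ≠ 0 := by
    intro h0
    refine hLne ?_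
    have hle : J ^ L ≤ Submodule.span F {t ^ L} := by
      have := hpow L (by omega); rwa [hL, sup_bot_eq] at this
    have : t ^ L = 0 := h.nd _ (htJ L (by omega)) h0 fun y hy => by
      have := mul_mem_pow (Submodule.pow_mem_pow J ht L) (mem_pow_one.2 hy)
      rw [hL, Submodule.mem_bot] at this
      rw [this, map_zero]
    rw [this, Submodule.span_singleton_eq_bot.2 rfl] at hle
    exact eq_bot_iff.2 hle
  set S := Submodule.span F (Set.range fun i : ℕ => t ^ (n + i)) with hS
  have hnS : J ^ n ≤ S := by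
    have : ∀ k, J ^ n ≤ S ⊔ J ^ (n + k) := fun k => by
      induction k with
      | zero => exact le_sup_right
      | succ k ih =>
        refine ih.trans (sup_le le_sup_left ((hpow (n + k) (by omega)).trans (sup_le ?_ le_sup_right)))
        exact (Submodule.span_le.2 (Set.singleton_subset_iff.2 (Submodule.subset_span (Set.mem_range_self (f := fun i : ℕ => t ^ (n + i)) k)))).trans
          le_sup_left
    have h' := this (L + 1)
    rwa [pow_add, hL, Submodule.mul_bot, sup_bot_eq] at h'
  have hsep : ∀ d ∈ J ^ n, (∀ i, s (d * t ^ i) = 0) → d = 0 := by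
    intro d hd hs
    have : ∀ k, d ∈ J ^ (n + k) := fun k => by
      induction k with
      | zero => exact hd
      | succ k ih =>
        obtain ⟨_, hw, q, hq, hsum⟩ := Submodule.mem_sup.1 (hpow (n + k) (by omega) ih)
        obtain ⟨r, rfl⟩ := Submodule.mem_span_singleton.1 hw
        by_cases hkL : n + k ≤ L
        · have hr : r = 0 := by
            have h1 := hs (L - (n + k))
            have h2 : q * t ^ (L - (n + k)) = 0 := by
              have := mul_mem_pow hq (Submodule.pow_mem_pow J ht (L - (n + k)))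
              rwa [show n + k + 1 + (L - (n + k)) = L + 1 by omega, hL, Submodule.mem_bot] at this
            rw [← hsum, add_mul, h2, add_zero, smul_mul_assoc, ← pow_add, map_smul,
              show n + k + (L - (n + k)) = L by omega, smul_eq_mul] at h1
            exact (mul_eq_zero.1 h1).resolve_right hsL
          rw [← hsum, hr, zero_smul, zero_add, ← add_assoc]
          exact hq
        · have : J ^ (n + k) ≤ ⊥ := hL ▸ pow_anti h (by omega) (by omega)
          rw [(Submodule.mem_bot F).1 (this ih)]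
          exact Submodule.zero_mem _
    have h' := this (L + 1)
    rwa [pow_add, hL, Submodule.mul_bot, Submodule.mem_bot] at h'
  have hcomm : ∀ m, n - 1 ≤ m → ∀ v ∈ J, v * t ^ m = t ^ m * v := by
    intro m hm v hv
    rw [← sub_eq_zero]
    refine hsep _ (sub_mem ?_ ?_) fun i => ?_
    · exact pow_anti h (by omega) (show n ≤ 1 + m by omega)
        (mul_mem_pow (mem_pow_one.2 hv) (Submodule.pow_mem_pow J ht m))
    · exact pow_anti h (by omega) (show n ≤ m + 1 by omega)
        (mul_mem_pow (Submodule.pow_mem_pow J ht m) (mem_pow_one.2 hv))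
    · have hvi : v * t ^ i ∈ J := by
        rcases Nat.eq_zero_or_pos i with rfl | hi
        · simpa using hv
        · exact h.sq (Submodule.mul_mem_mul hv (htJ i hi))
      rw [sub_mul, map_sub, mul_assoc (t ^ m), h.comm (t ^ m) (htJ m (by omega)) _ hvi, mul_assoc,
        mul_assoc, ← pow_add, ← pow_add, add_comm i m, sub_self]
  set T := Submodule.span F (Set.range fun i : ℕ => t ^ (i + 1)) with hT
  have hq : ∀ v ∈ J, ∃ q ∈ T, v * t ^ (n - 1) = t ^ (n - 1) * q := by
    intro v hv
    have hmem : v * t ^ (n - 1) ∈ S := hnS (by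
      have := mul_mem_pow (mem_pow_one.2 hv) (Submodule.pow_mem_pow J ht (n - 1))
      rwa [show 1 + (n - 1) = n by omega] at this)
    have hle : S ≤ T.map (LinearMap.mulLeft F (t ^ (n - 1))) := by
      rw [hS, Submodule.span_le]
      rintro _ ⟨i, rfl⟩
      refine ⟨t ^ (i + 1), Submodule.subset_span ⟨i, rfl⟩, ?_⟩
      show t ^ (n - 1) * t ^ (i + 1) = t ^ (n + i)
      rw [← pow_add, show n - 1 + (i + 1) = n + i by omega]
    obtain ⟨q, hq, hqe⟩ := hle hmem
    exact ⟨q, hq, hqe.symm⟩
  have hTcomm : ∀ q ∈ T, ∀ i, Commute q (t ^ i) := fun q hq i => by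
    induction hq using Submodule.span_induction with
    | mem x hx => obtain ⟨j, rfl⟩ := hx; exact Commute.pow_pow (Commute.refl t) _ _
    | zero => exact Commute.zero_left _
    | add a b _ _ ha hb => exact ha.add_left hb
    | smul r a _ ha => exact ha.smul_left r
  have hTT : ∀ p ∈ T, ∀ q ∈ T, p * q = q * p := fun p hp q hq => by
    induction hq using Submodule.span_induction with
    | mem x hx => obtain ⟨j, rfl⟩ := hx; exact (hTcomm p hp _).eq
    | zero => simp
    | add a b _ _ ha hb => rw [mul_add, add_mul, ha, hb]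
    | smul r a _ ha => rw [mul_smul_comm, smul_mul_assoc, ha]
  have hzero : ∀ x ∈ J, ∀ y ∈ J, (x * y - y * x) * t ^ (n - 1) = 0 := by
    intro x hx y hy
    obtain ⟨p, hp, hpe⟩ := hq x hx
    obtain ⟨q, hq', hqe⟩ := hq y hy
    rw [sub_mul, mul_assoc, hqe, ← mul_assoc, hpe, mul_assoc y, hpe, ← mul_assoc y, hqe, mul_assoc,
      mul_assoc, hTT p hp q hq', sub_self]
  intro a ha x hx y hy
  set c := x * y - y * x with hc
  have hc2 : c ∈ J ^ 2 := by
    rw [pow_two, hc]; exact sub_mem (Submodule.mul_mem_mul hx hy) (Submodule.mul_mem_mul hy hx)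
  suffices key : ∀ k, k ≤ n - 1 → ∀ a ∈ J ^ k, a * c * t ^ (n - 1 - k) = 0 by
    simpa using key (n - 1) le_rfl a ha
  intro k
  induction k with
  | zero =>
    intro _ a ha
    rw [pow_zero, Submodule.mem_one] at ha
    obtain ⟨r, rfl⟩ := ha
    rw [Nat.sub_zero, mul_assoc, hc, hzero x hx y hy, mul_zero]
  | succ k ih =>
    intro hk a ha
    rw [pow_succ'] at ha
    refine Submodule.mul_induction_on ha (fun u hu b hb => ?_)
      (fun a b ha hb => by rw [add_mul, add_mul, ha, hb, add_zero])
    · set P := b * c * t ^ (n - 1 - (k + 1)) with hP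
      rw [show u * b * c * t ^ (n - 1 - (k + 1)) = u * P by simp only [hP, mul_assoc]]
      have hPS : P ∈ S := hnS (by
        have := mul_mem_pow (mul_mem_pow hb hc2) (Submodule.pow_mem_pow J ht (n - 1 - (k + 1)))
        rwa [show k + 2 + (n - 1 - (k + 1)) = n by omega] at this)
      have hPt : P * t = 0 := by
        rw [hP, mul_assoc, ← pow_succ, show n - 1 - (k + 1) + 1 = n - 1 - k by omega]
        exact ih (by omega) b hb
      obtain ⟨q, hqT, hqe⟩ := hq u hu
      have hu' : ∀ P ∈ S, u * P = P * q := fun P hP => by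
        induction hP using Submodule.span_induction with
        | mem z hz =>
          obtain ⟨i, rfl⟩ := hz
          show u * t ^ (n + i) = t ^ (n + i) * q
          rw [show n + i = (n - 1) + (i + 1) by omega, pow_add, ← mul_assoc, hqe, mul_assoc, mul_assoc,
            (hTcomm q hqT (i + 1)).eq]
        | zero => simp
        | add a b _ _ ha hb => rw [mul_add, add_mul, ha, hb]
        | smul r a _ ha => rw [mul_smul_comm, smul_mul_assoc, ha]
      rw [hu' P hPS]
      clear hqe hu'
      induction hqT using Submodule.span_induction with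
      | mem z hz =>
        obtain ⟨i, rfl⟩ := hz
        show P * t ^ (i + 1) = 0
        rw [pow_succ', ← mul_assoc, hPt, zero_mul]
      | zero => simp
      | add a b _ _ ha hb => rw [mul_add, ha, hb, add_zero]
      | smul r a _ ha => rw [mul_smul_comm, ha, smul_zero]

end CfsgLib.SmallCenter
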