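import Cfsg.Agent.Lib.Blocks.Brauer.SmallCenter.Bound

/-!
# A local symmetric corner with at most five independent traces has dimension at most eleven
-/

set_option autoImplicit false

namespace CfsgLib.SmallCenter

open CfsgLib.IBr

theorem finrank_corner_le_eleven {k A : Type*} [Field k] [IsAlgClosed k] [Ring A] [Algebra k A]
    [FiniteDimensional k A] {f : A} (hf : f * f = f)
    (π : A →ₗ[k] k) (hπf : π f = 1)
    (hπmul : ∀ a ∈ LinearMap.range (compr k f), ∀ b ∈ LinearMap.range (compr k f),
      π (a * b) = π a * π b)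
    (R : Submodule k A) {N : ℕ} (hR : R ^ N = ⊥)
    (hJR : ∀ a ∈ LinearMap.range (compr k f), π a = 0 → a ∈ R)
    (s : A →ₗ[k] k)
    (hs : ∀ a ∈ LinearMap.range (compr k f), ∀ b ∈ LinearMap.range (compr k f), s (a * b) = s (b * a))
    (hnd : ∀ a ∈ LinearMap.range (compr k f),
      (∀ y ∈ LinearMap.range (compr k f), s (a * y) = 0) → a = 0)
    (htr : ∀ τ : Fin (5 + 1) → (A →ₗ[k] k), (∀ i, ∀ a ∈ LinearMap.range (compr k f),
      ∀ b ∈ LinearMap.range (compr k f), τ i (a * b) = τ i (b * a)) →
      ∃ c : Fin (5 + 1) → k, c ≠ 0 ∧ ∀ a ∈ LinearMap.range (compr k f), ∑ i, c i * τ i a = 0) :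
    Module.finrank k (LinearMap.range (compr k f)) ≤ 11 := by
  classical
  set U := LinearMap.range (compr k f) with hU
  have hfU : f ∈ U := (mem_range_compr hf).2 (by rw [hf, hf])
  set J := U ⊓ LinearMap.ker π with hJ
  have hdec : ∀ a ∈ U, a - π a • f ∈ J := fun a ha =>
    ⟨sub_mem ha (U.smul_mem _ hfU), by simp [LinearMap.mem_ker, hπf]⟩
  have hJmul : ∀ a ∈ J, ∀ y ∈ U, a * y ∈ J := fun a ha y hy =>
    ⟨mul_mem_corner hf ha.1 hy, by
      rw [SetLike.mem_coe, LinearMap.mem_ker, hπmul a ha.1 y hy, LinearMap.mem_ker.1 ha.2, zero_mul]⟩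
  have hJJ : J * J ≤ J := Submodule.mul_le.2 fun a ha b hb => hJmul a ha b hb.1
  have hJRle : J ≤ R := fun a ha => hJR a ha.1 (LinearMap.mem_ker.1 ha.2)
  have hJN : J ^ (N + 1) = ⊥ := by
    refine eq_bot_iff.2 ((pow_le_pow_left' hJRle (N + 1)).trans ?_)
    rw [pow_succ, hR, Submodule.bot_mul]
  have hrad : Rad J s := by
    refine ⟨hJJ, ⟨N, hJN⟩, fun a ha b hb => hs a ha.1 b hb.1, fun a ha h0 hy => hnd a ha.1 fun y hyU => ?_⟩
    rw [show y = (y - π y • f) + π y • f by abel, mul_add, mul_smul_comm, right_mul_of_mem hf ha.1,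
      map_add, map_smul, hy _ (hdec y hyU), h0, smul_zero, add_zero]
  -- the commutators of the corner are those of its radical
  set C := comms J with hC
  have hcomm : ∀ a ∈ U, ∀ b ∈ U, a * b - b * a ∈ C := by
    intro a ha b hb
    refine Submodule.subset_span ⟨_, hdec a ha, _, hdec b hb, ?_⟩
    simp only [mul_sub, sub_mul, smul_mul_assoc, mul_smul_comm, left_mul_of_mem hf ha,
      left_mul_of_mem hf hb, right_mul_of_mem hf ha, right_mul_of_mem hf hb, hf]
    simp only [smul_sub, smul_comm (π b) (π a) f]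
    abel
  have hCU : C ≤ U := comms_le_sq.trans ((pow_le_rad hrad (by omega)).trans inf_le_left)
  have hcodim : Module.finrank k U ≤ Module.finrank k C + 5 := by
    by_contra hlt
    push Not at hlt
    set V := U.map C.mkQ with hV
    have hker : Module.finrank k V + Module.finrank k C = Module.finrank k U := by
      have h := LinearMap.finrank_range_add_finrank_ker (C.mkQ ∘ₗ U.subtype)
      rw [LinearMap.range_comp, Submodule.range_subtype, LinearMap.ker_comp, Submodule.ker_mkQ] at h
      rwa [(Submodule.comapSubtypeEquivOfLe hCU).finrank_eq] at h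
    set bV := Module.finBasis k V
    obtain ⟨ext, hext⟩ : ∃ L : (A ⧸ C) →ₗ[k] V, L ∘ₗ V.subtype = LinearMap.id :=
      V.subtype.exists_leftInverse_of_injective (Submodule.ker_subtype V)
    have hle : 5 + 1 ≤ Module.finrank k V := by omega
    obtain ⟨c, hc0, hc⟩ := htr (fun i => bV.coord (Fin.castLE hle i) ∘ₗ ext ∘ₗ C.mkQ)
      (fun i a ha b hb => by
        have h : C.mkQ (a * b) = C.mkQ (b * a) := (Submodule.Quotient.eq C).2 (hcomm a ha b hb)
        simp only [LinearMap.comp_apply, h])
    refine hc0 (funext fun j => ?_)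
    obtain ⟨a, ha, hab⟩ := (bV (Fin.castLE hle j)).2
    have h := hc a ha
    have hea : ext (C.mkQ a) = bV (Fin.castLE hle j) := by
      rw [hab]; exact LinearMap.congr_fun hext _
    simp only [LinearMap.comp_apply, hea, Module.Basis.coord_apply, Module.Basis.repr_self,
      Finsupp.single_apply] at h
    rw [Finset.sum_eq_single j] at h
    · simpa using h
    · intro i _ hi
      rw [if_neg (fun e => hi ((Fin.castLE_injective hle e).symm)), mul_zero]
    · simp
  have hUdim : Module.finrank k U ≤ Module.finrank k J + 1 := by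
    have hle : U ≤ J ⊔ Submodule.span k {f} := fun a ha => Submodule.mem_sup.2
      ⟨_, hdec a ha, π a • f, Submodule.smul_mem _ _ (Submodule.mem_span_singleton_self f), by abel⟩
    refine (Submodule.finrank_mono hle).trans ((Submodule.finrank_add_le_finrank_add_finrank _ _).trans ?_)
    exact Nat.add_le_add_left ((finrank_span_le_card _).trans (by simp)) _
  have hJU : Module.finrank k J + 1 ≤ Module.finrank k U := by
    have : J < U := lt_of_le_of_ne inf_le_left fun h => by
      have := (h ▸ hfU : f ∈ J).2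
      rw [SetLike.mem_coe, LinearMap.mem_ker, hπf] at this
      exact one_ne_zero this
    exact Submodule.finrank_lt_finrank_of_lt this
  have := finrank_radical_le hrad (le_trans hJU hcodim)
  omega

end CfsgLib.SmallCenter
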