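import Cfsg.Agent.Lib.Blocks.Brauer.Corner
import Cfsg.Agent.Lib.Blocks.Brauer.SmallCenter.LocalCorner

/-!
# Decomposition numbers of a block with one Brauer character and at most five characters

The corner algebra of the block is local and symmetric with at most five independent traces.
-/

set_option autoImplicit false

namespace CfsgLib.IBr

open Cfsg MonoidAlgebra CfsgLib.Blocks CfsgLib.Pairs CfsgLib.Star

variable {G : Type*} [Group G] [Fintype G] {p : ℕ} [Fact p.Prime] {M : Ideal AlgInt} [M.IsPrime]
  (hM : IsPModular p M)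
include hM

/-- In a block with one Brauer character and at most five characters the squares of the decomposition
numbers sum to at most eleven. -/
theorem sum_sq_dec_le_eleven [Fintype (IrrCharacter G)] (D : Data G M) {B : Set (IrrCharacter G)}
    (hB : IsPBlock M B) (hk : Nat.card B ≤ 5) {δ : Fin D.n}
    (hδ : D.block hM δ = B) (huniq : ∀ δ', D.block hM δ' = B → δ' = δ) :
    ∑ χ : IrrCharacter G, D.dec χ δ ^ 2 ≤ 11 := by
  classical
  have hne := NeZero.ne (D.d δ)
  set e := blockIdemBar M B with he
  set f := D.ε δ * e with hfdef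
  have hec : ∀ a, e * a = a * e := fun a => ((isCentralElt_blockIdemBar hB).commute a).eq
  have hee : e * e = e := blockIdemBar_mul_self hB
  have hf : f * f = f := by
    rw [hfdef, mul_assoc, ← mul_assoc e, hec (D.ε δ), mul_assoc (D.ε δ) e, hee, ← mul_assoc, D.hε]
  have hef : e * f = f := by rw [hfdef, ← mul_assoc, hec, mul_assoc, hee]
  have hψf : ∀ δ', D.ψ f δ' = D.ψ (D.ε δ) δ' := fun δ' => by
    rw [hfdef, map_mul, Pi.mul_apply]
    by_cases h : δ' = δ
    · subst h; rw [D.psi_blockIdemBar hM hB hδ, mul_one]
    · rw [D.hεψ, Pi.single_eq_of_ne h, zero_mul]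
  -- the corner has the dimension of the sum
  have hdim : (Module.finrank (Res M) (LinearMap.range (compr (Res M) f)) : ℤ) =
      ∑ χ : IrrCharacter G, (D.dec χ δ : ℤ) ^ 2 := by
    rw [finrank_corner_eq hM hf]
    refine Finset.sum_congr rfl fun χ _ => ?_
    rw [D.mult_eq_sum hM χ hf, Finset.sum_eq_single δ]
    · simp [Data.rk, hψf, D.hεψ, rank_single_one]
    · intro b _ hb
      simp [Data.rk, hψf, D.hεψ, Pi.single_eq_of_ne hb]
    · simp
  suffices h : Module.finrank (Res M) (LinearMap.range (compr (Res M) f)) ≤ 11 by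
    have h' : (∑ χ : IrrCharacter G, (D.dec χ δ : ℤ) ^ 2) ≤ 11 := hdim ▸ (by exact_mod_cast h)
    exact_mod_cast h'
  -- the augmentation
  let π : MonoidAlgebra (Res M) G →ₗ[Res M] Res M :=
    Matrix.entryLinearMap (Res M) (Res M) (0 : Fin (D.d δ)) 0 ∘ₗ LinearMap.proj δ ∘ₗ D.ψ.toLinearMap
  have hπ : ∀ x, π x = D.ψ x δ 0 0 := fun x => rfl
  have hmem : ∀ a ∈ LinearMap.range (compr (Res M) f),
      D.ψ a = Pi.single δ (Matrix.single 0 0 (π a)) := by
    intro a ha
    have h := (mem_range_compr hf).1 ha
    funext b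
    rw [hπ, ← h]
    simp only [map_mul, Pi.mul_apply, hψf]
    by_cases hb : b = δ
    · subst hb
      rw [D.hεψ, Pi.single_eq_same, Pi.single_eq_same, Matrix.single_mul_mul_single, one_mul, mul_one,
        Matrix.single_apply_same]
    · rw [D.hεψ, Pi.single_eq_of_ne hb, Pi.single_eq_of_ne hb, zero_mul, zero_mul]
  obtain ⟨N, hN⟩ : ∃ N, (Ring.jacobson (MonoidAlgebra (Res M) G)) ^ N = ⊥ := by
    have : IsArtinianRing (MonoidAlgebra (Res M) G) := IsArtinianRing.of_finite (Res M) _
    obtain ⟨N, hN⟩ := IsArtinianRing.isNilpotent_jacobson_bot (R := MonoidAlgebra (Res M) G)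
    rw [Ideal.jacobson_bot] at hN
    exact ⟨N, hN⟩
  have hker : ∀ x, D.ψ x = 0 → x ∈ Ring.jacobson (MonoidAlgebra (Res M) G) := by
    intro x hx
    rw [← Ideal.jacobson_bot, Ideal.mem_jacobson_iff]
    intro y
    have hn : IsNilpotent (-(y * x)) := (D.nil _ (by rw [map_mul, hx, mul_zero])).neg
    obtain ⟨u, hu⟩ := hn.isUnit_one_sub
    refine ⟨↑u⁻¹, ?_⟩
    rw [Ideal.mem_bot, mul_assoc, show (↑u⁻¹ : MonoidAlgebra (Res M) G) * (y * x) + ↑u⁻¹ - 1 =
      ↑u⁻¹ * (1 - -(y * x)) - 1 by rw [mul_sub, mul_one, mul_neg]; abel, ← hu, Units.inv_mul, sub_self]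
  set R := (Ring.jacobson (MonoidAlgebra (Res M) G)).restrictScalars (Res M) with hRdef
  have hR : ∀ n, 1 ≤ n → R ^ n ≤ ((Ring.jacobson (MonoidAlgebra (Res M) G)) ^ n).restrictScalars (Res M) := by
    intro n hn
    induction n with
    | zero => omega
    | succ n ih =>
      rcases Nat.eq_zero_or_pos n with rfl | hn'
      · simp [hRdef, Submodule.pow_one]
      rw [pow_succ, Submodule.mul_le]
      intro a ha b hb
      rw [Submodule.restrictScalars_mem, Submodule.pow_succ]
      exact Ideal.mul_mem_mul (ih hn' ha) hb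
  have hR' : R ^ (N + 1) = ⊥ := by
    refine eq_bot_iff.2 ((hR (N + 1) (by omega)).trans ?_)
    intro a ha
    rw [Submodule.restrictScalars_mem, Submodule.pow_succ, hN, Ideal.bot_mul, Ideal.mem_bot] at ha
    exact ha
  -- the symmetrizing form
  let s : MonoidAlgebra (Res M) G →ₗ[Res M] Res M :=
    Finsupp.lapply 1 ∘ₗ (MonoidAlgebra.coeffLinearEquiv (Res M)).toLinearMap
  have hs : ∀ x, s x = x.coeff 1 := fun x => rfl
  have hscomm : ∀ a b : MonoidAlgebra (Res M) G, s (a * b) = s (b * a) := by
    intro a b
    rw [hs, hs, coeff_mul_eq_sum, coeff_mul_eq_sum]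
    refine Fintype.sum_equiv (Equiv.inv G) _ _ fun x => ?_
    rw [Equiv.inv_apply, inv_inv, mul_one, mul_one, mul_comm]
  have hπf : π f = 1 := by rw [hπ, hψf, D.hεψ, Pi.single_eq_same, Matrix.single_apply_same]
  have hπmul : ∀ a ∈ LinearMap.range (compr (Res M) f), ∀ b ∈ LinearMap.range (compr (Res M) f),
      π (a * b) = π a * π b := by
    intro a ha b hb
    rw [hπ (a * b), map_mul, Pi.mul_apply, hmem a ha, hmem b hb, Pi.single_eq_same, Pi.single_eq_same,
      Matrix.single_mul_single_same, Matrix.single_apply_same]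
  have := Star.isAlgClosed_res (M := M)
  refine CfsgLib.SmallCenter.finrank_corner_le_eleven hf π hπf hπmul R hR' ?_ s (fun a _ b _ => hscomm a b) ?_ ?_
  · intro a ha h0
    refine hker a ?_
    rw [hmem a ha, h0, Matrix.single_zero, Pi.single_zero]
  · intro a ha h
    refine MonoidAlgebra.ext (Finsupp.ext fun g => ?_)
    have hfaf := (mem_range_compr hf).1 ha
    have h1 : s (a * single g⁻¹ 1) = 0 := by
      rw [show a * single g⁻¹ 1 = (f * a * f) * single g⁻¹ 1 by rw [hfaf]]
      rw [show f * a * f * single g⁻¹ 1 = f * (a * (f * single g⁻¹ 1)) by simp only [mul_assoc],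
        hscomm, show a * (f * single g⁻¹ 1) * f = a * (f * single g⁻¹ 1 * f) by simp only [mul_assoc]]
      exact h _ ⟨single g⁻¹ 1, compr_apply f _⟩
    rw [hs, coeff_mul_eq_sum, Finset.sum_eq_single g] at h1
    · simpa [MonoidAlgebra.coeff_single] using h1
    · intro b _ hb
      rw [MonoidAlgebra.coeff_single, Finsupp.single_eq_of_ne, mul_zero]
      simpa [inv_inj] using hb
    · simp
  -- traces
  intro τ hτ
  by_contra hcon
  push Not at hcon
  -- the unit of the block is in the ideal generated by the idempotent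
  obtain ⟨J, u, v, hu, huv⟩ : ∃ (J : Finset (Fin (D.d δ))) (u v : Fin (D.d δ) → MonoidAlgebra (Res M) G),
      (∀ i ∈ J, e * u i = u i) ∧ e = ∑ i ∈ J, u i * f * v i := by
    choose a ha using fun i : Fin (D.d δ) => D.surj (Pi.single δ (Matrix.single i 0 1))
    choose c hc using fun i : Fin (D.d δ) => D.surj (Pi.single δ (Matrix.single 0 i 1))
    set S0 := ∑ i, e * a i * f * c i with hS0
    have hψS : D.ψ (e - S0) = 0 := by
      funext b
      rw [map_sub, Pi.sub_apply, hS0, map_sum, Finset.sum_apply, Pi.zero_apply]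
      simp only [map_mul, Pi.mul_apply, hψf, D.hεψ, ha, hc]
      by_cases hb : b = δ
      · subst hb
        simp only [he, D.psi_blockIdemBar hM hB hδ, Pi.single_eq_same, one_mul,
          Matrix.single_mul_single_same, mul_one]
        rw [sub_eq_zero]
        ext i j
        by_cases hij : i = j
        · subst hij
          simp [Matrix.sum_apply, Matrix.single_apply, Matrix.one_apply]
        · simp [Matrix.sum_apply, Matrix.single_apply, hij,
            show ∀ x, ¬ (x = i ∧ x = j) from fun x h => hij (h.1.symm.trans h.2)]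
      · simp [Pi.single_eq_of_ne hb, he, D.psi_blockIdemBar_of_ne hM hB (fun h => hb (huniq b h))]
    set n := e - S0 with hn
    obtain ⟨m, hm⟩ := D.nil n hψS
    set S := ∑ t ∈ Finset.range (m + 1), n ^ t
    have hen : e * n = n := by
      rw [hn, mul_sub, hee, hS0, Finset.mul_sum]
      simp only [← mul_assoc, hee]
    have hkey : e = S0 * (S * e) := by
      have h1 : (1 - n) * S = 1 := by
        rw [mul_neg_geom_sum, pow_succ, hm, zero_mul, sub_zero]
      have h2 : S0 = e * (1 - n) := by rw [mul_sub, mul_one, hen, hn]; abel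
      rw [h2, ← mul_assoc, mul_assoc e, h1, mul_one, hee]
    refine ⟨Finset.univ, fun i => e * a i, fun i => c i * (S * e), fun i _ => by rw [← mul_assoc, hee], ?_⟩
    conv_lhs => rw [hkey, hS0, Finset.sum_mul]
    simp only [mul_assoc]
  have hUmem : ∀ a b c : MonoidAlgebra (Res M) G, f * a * b * c * f ∈ LinearMap.range (compr (Res M) f) :=
    fun a b c => ⟨a * b * c, by rw [compr_apply]; simp only [mul_assoc]⟩
  let TT : Fin (5 + 1) → (MonoidAlgebra (Res M) G →ₗ[Res M] Res M) := fun i =>
    ∑ j ∈ J, τ i ∘ₗ (LinearMap.mulLeft (Res M) (f * v j) ∘ₗ LinearMap.mulRight (Res M) (u j * f))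
  have hTTa : ∀ i x, TT i x = ∑ j ∈ J, τ i (f * v j * x * u j * f) := fun i x => by
    simp [TT, mul_assoc]
  have hfacts : ∀ (x : MonoidAlgebra (Res M) G) j, j ∈ J → x * e * u j = x * u j := fun x j hj => by
    rw [mul_assoc, hu j hj]
  have hTT : ∀ i (x y : MonoidAlgebra (Res M) G), TT i (x * y) = TT i (y * x) := by
    intro i x y
    have key : ∀ x y : MonoidAlgebra (Res M) G, TT i (x * y) = ∑ j ∈ J, ∑ l ∈ J,
        τ i ((f * v j * x * u l * f) * (f * v l * y * u j * f)) := by
      intro x y
      rw [hTTa]
      refine Finset.sum_congr rfl fun j hj => ?_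
      rw [← map_sum]
      congr 1
      calc f * v j * (x * y) * u j * f = f * v j * x * (e * (y * u j)) * f := by
            rw [← mul_assoc e, hec y, mul_assoc y, hu j hj]; simp only [mul_assoc]
        _ = f * v j * x * ((∑ l ∈ J, u l * f * v l) * (y * u j)) * f := by rw [← huv]
        _ = _ := by
            simp only [Finset.mul_sum, Finset.sum_mul]
            refine Finset.sum_congr rfl fun l _ => ?_
            rw [show f * v j * x * u l * f * (f * v l * y * u j * f) =
              f * v j * x * u l * (f * f) * (v l * y * u j * f) by simp only [mul_assoc], hf]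
            simp only [mul_assoc]
    rw [key, key, Finset.sum_comm]
    refine Finset.sum_congr rfl fun l _ => Finset.sum_congr rfl fun j _ => ?_
    exact hτ i _ (hUmem _ _ _) _ (hUmem _ _ _)
  have hTU : ∀ i, ∀ a ∈ LinearMap.range (compr (Res M) f), TT i a = τ i a := by
    intro i a ha
    have hfa := left_mul_of_mem hf ha
    have haf := right_mul_of_mem hf ha
    rw [hTTa]
    have hterm : ∀ j ∈ J, τ i (f * v j * a * u j * f) = τ i (a * (f * (u j * f * v j) * f)) := by
      intro j _
      have hX : f * v j * f ∈ LinearMap.range (compr (Res M) f) := ⟨v j, compr_apply f _⟩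
      have hY : f * u j * f ∈ LinearMap.range (compr (Res M) f) := ⟨u j, compr_apply f _⟩
      calc τ i (f * v j * a * u j * f) = τ i ((f * v j * f) * (a * (f * u j * f))) := by
            congr 1
            conv_lhs => rw [← hfa, ← haf]
            rw [← mul_assoc a (f * u j) f]
            simp only [mul_assoc]
        _ = τ i ((a * (f * u j * f)) * (f * v j * f)) := hτ i _ hX _ (mul_mem_corner hf ha hY)
        _ = τ i (a * (f * (u j * f * v j) * f)) := by
            congr 1
            rw [show a * (f * u j * f) * (f * v j * f) = a * (f * u j * (f * f) * v j * f) by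
              simp only [mul_assoc], hf]
            simp only [mul_assoc]
    rw [Finset.sum_congr rfl hterm, ← map_sum]
    congr 1
    rw [← Finset.mul_sum, ← Finset.sum_mul, ← Finset.mul_sum, ← huv, ← hec f, mul_assoc, hf, hef, haf]
  let F : Fin (5 + 1) → G → Res M := fun i x => TT i (single x 1)
  have hli : LinearIndependent (Res M) F := by
    rw [Fintype.linearIndependent_iff]
    by_contra hne'
    push Not at hne'
    obtain ⟨c, hc, i, hi⟩ := hne'
    obtain ⟨a, ha, hane⟩ := hcon c (fun h => hi (congrFun h i))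
    refine hane ?_
    have hsum : ∑ i, c i • TT i = 0 := by
      refine MonoidAlgebra.lhom_ext' fun x => LinearMap.ext_ring ?_
      have h := congrFun hc x
      simpa [F, Finset.sum_apply] using h
    have h := LinearMap.congr_fun hsum a
    simp only [LinearMap.coe_sum, Finset.sum_apply, LinearMap.smul_apply, smul_eq_mul,
      LinearMap.zero_apply, hTU _ a ha] at h
    exact h
  have h3 := card_le_of_fixed hM hB F (fun i g h => by
    show TT i (single (h * g * h⁻¹) 1) = TT i (single g 1)
    rw [show single (h * g * h⁻¹) (1 : Res M) = single h 1 * single (g * h⁻¹) 1 by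
      rw [single_mul_single, mul_one, mul_assoc], hTT, single_mul_single, mul_one,
      inv_mul_cancel_right])
    (fun i x => by
      show ∑ w, e.coeff w * TT i (single (w * x) 1) = TT i (single x 1)
      calc ∑ w, e.coeff w * TT i (single (w * x) 1)
          = TT i ((∑ w, e.coeff w • single w 1) * single x 1) := by
            rw [Finset.sum_mul, map_sum]
            refine Finset.sum_congr rfl fun w _ => ?_
            rw [smul_mul_assoc, single_mul_single, one_mul, map_smul, smul_eq_mul]
        _ = TT i (e * single x 1) := by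
            congr 2
            exact MonoidAlgebra.ext (Finsupp.ext fun y => by
              simp [MonoidAlgebra.coeff_single, Finsupp.single_apply])
        _ = TT i (single x 1) := by
            rw [hTTa, hTTa]
            refine Finset.sum_congr rfl fun j hj => ?_
            rw [hec, mul_assoc (f * v j), mul_assoc (single x 1), hu j hj, ← mul_assoc (f * v j)])
    hli
  rw [Fintype.card_fin] at h3
  omega

end CfsgLib.IBr
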