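import Mathlib.LinearAlgebra.Dual.Lemmas
import Mathlib.LinearAlgebra.FiniteDimensional.Lemmas
import Mathlib.LinearAlgebra.Eigenspace.Triangularizable
import Mathlib.Tactic.LinearCombination
import Mathlib.Tactic.Module
import Mathlib.Tactic.FinCases

/-!
# The first three layers of a graded algebra generated in degree one

`Gr` records the products `V × V → Q2`, `V × Q2 → Q3` and `Q2 × V → Q3` of such an algebra.
When the commutators span `Q2` the degenerate configurations (compression, skew) have a third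
layer of dimension at most one.
-/

set_option autoImplicit false

namespace CfsgLib.SmallCenter

/-- The first products of a graded algebra generated in degree one. -/
structure Gr (F V Q2 Q3 : Type*) [Field F] [AddCommGroup V] [Module F V] [AddCommGroup Q2]
    [Module F Q2] [AddCommGroup Q3] [Module F Q3] where
  mu : V →ₗ[F] V →ₗ[F] Q2
  L : V →ₗ[F] Q2 →ₗ[F] Q3
  R : Q2 →ₗ[F] V →ₗ[F] Q3
  assoc : ∀ u v w, L u (mu v w) = R (mu u v) w

variable {F V Q2 Q3 : Type*} [Field F] [AddCommGroup V] [Module F V] [AddCommGroup Q2]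
  [Module F Q2] [AddCommGroup Q3] [Module F Q3]

namespace Gr

variable (g : Gr F V Q2 Q3)

/-- The opposite algebra. -/
def op : Gr F V Q2 Q3 where
  mu := g.mu.flip
  L := g.R.flip
  R := g.L.flip
  assoc u v w := by
    simp only [LinearMap.flip_apply]
    exact (g.assoc w v u).symm

/-- The commutators span the second layer. -/
def Comm : Prop := ∀ f : Q2 →ₗ[F] F, (∀ a b, f (g.mu a b) = f (g.mu b a)) → f = 0

/-- The third layer lies on a line. -/
def Line : Prop := ∃ X : Q3, ∀ x m, g.L x m ∈ Submodule.span F {X}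

theorem op_comm (h : g.Comm) : g.op.Comm := fun f hf => h f fun a b => (hf a b).symm

variable {g}

theorem Comm.mem (h : g.Comm) {S : Submodule F Q2} (hS : ∀ a b, g.mu a b - g.mu b a ∈ S) (m : Q2) :
    m ∈ S := by
  by_contra hm
  obtain ⟨f, hfm, hfS⟩ := S.exists_dual_map_eq_bot_of_notMem hm inferInstance
  have hf : ∀ x ∈ S, f x = 0 := fun x hx => by
    have : f x ∈ S.map f := Submodule.mem_map_of_mem hx
    rwa [hfS, Submodule.mem_bot] at this
  have := h f fun a b => sub_eq_zero.1 (by rw [← map_sub]; exact hf _ (hS a b))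
  exact hfm (by rw [this, LinearMap.zero_apply])

/-- A bilinear map is alternating modulo a subspace if it is so on spanning triples. -/
theorem Comm.mem_of_three (h : g.Comm) {S : Submodule F Q2} {q a b : V}
    (hsp : ∀ v : V, ∃ r s t : F, v = r • q + s • a + t • b)
    (h1 : g.mu q a - g.mu a q ∈ S) (h2 : g.mu q b - g.mu b q ∈ S)
    (h3 : g.mu a b - g.mu b a ∈ S) (m : Q2) : m ∈ S := by
  refine h.mem (fun u v => ?_) m
  obtain ⟨r, s, t, rfl⟩ := hsp u
  obtain ⟨r', s', t', rfl⟩ := hsp v
  have e : g.mu (r • q + s • a + t • b) (r' • q + s' • a + t' • b) -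
      g.mu (r' • q + s' • a + t' • b) (r • q + s • a + t • b) =
      (r * s' - s * r') • (g.mu q a - g.mu a q) + (r * t' - t * r') • (g.mu q b - g.mu b q) +
      (s * t' - t * s') • (g.mu a b - g.mu b a) := by
    simp only [map_add, map_smul, LinearMap.add_apply, LinearMap.smul_apply]
    module
  rw [e]
  exact add_mem (add_mem (S.smul_mem _ h1) (S.smul_mem _ h2)) (S.smul_mem _ h3)

theorem Comm.mem_mu (h : g.Comm) (m : Q2) :
    m ∈ Submodule.span F (Set.range fun ab : V × V => g.mu ab.1 ab.2) :=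
  h.mem (S := Submodule.span F (Set.range fun ab : V × V => g.mu ab.1 ab.2))
    (fun a b => sub_mem (Submodule.subset_span (Set.mem_range_self (a, b)))
      (Submodule.subset_span (Set.mem_range_self (b, a)))) m

theorem Comm.line_of_mu (h : g.Comm) {X : Q3}
    (hX : ∀ x y z, g.L x (g.mu y z) ∈ Submodule.span F {X}) : g.Line := by
  refine ⟨X, fun x m => ?_⟩
  induction h.mem_mu m using Submodule.span_induction with
  | mem m hm => obtain ⟨⟨y, z⟩, rfl⟩ := hm; exact hX x y z
  | zero => simp
  | add a b _ _ ha hb => rw [map_add]; exact add_mem ha hb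
  | smul r a _ ha => rw [map_smul]; exact Submodule.smul_mem _ r ha

theorem line_of_op (h : g.Comm) (hl : g.op.Line) : g.Line := by
  obtain ⟨X, hX⟩ := hl
  refine h.line_of_mu (X := X) fun x y z => ?_
  rw [g.assoc]
  exact hX z _

end Gr

/-- A bilinear form which is not symmetric admits no balanced pair of maps. -/
theorem eq_zero_of_balanced {W U : Type*} [AddCommGroup W] [Module F W] [AddCommGroup U] [Module F U]
    (γ : W →ₗ[F] W →ₗ[F] F) (A C : W →ₗ[F] U) {a b : W} (hab : γ a b ≠ γ b a)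
    (h : ∀ x y w, γ y w • A x = γ x y • C w) : A = 0 ∧ C = 0 := by
  have hC : C = 0 := by
    by_contra hC
    obtain ⟨w₁, hw₁⟩ : ∃ w, C w ≠ 0 := by
      by_contra h'; push Not at h'; exact hC (LinearMap.ext h')
    obtain ⟨φ, hφ⟩ := Module.Projective.exists_dual_ne_zero F hw₁
    set α : W → F := fun x => φ (A x) / φ (C w₁) with hα
    set β : W → F := fun y => γ y w₁ with hβ
    have hγ : ∀ x y, γ x y = β y * α x := fun x y => by
      have := congrArg φ (h x y w₁)
      simp only [map_smul, smul_eq_mul] at this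
      rw [hα, hβ]; field_simp; linear_combination -this
    have hne : α a * β b ≠ α b * β a := by
      intro e; apply hab; rw [hγ, hγ]; linear_combination e
    -- a vector killed by `α` with nonzero `β`
    set y := α a • b - α b • a with hy
    have hαy : α y = 0 := by
      simp only [hα, hy, map_sub, map_smul, smul_eq_mul]; ring
    have hβy : β y ≠ 0 := by
      simp only [hβ, hy, map_sub, map_smul, LinearMap.sub_apply, LinearMap.smul_apply, smul_eq_mul]
      exact sub_ne_zero.2 hne
    have hx : ∃ x, α x ≠ 0 := by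
      by_contra hx; push Not at hx; exact hne (by rw [hx a, hx b, zero_mul, zero_mul])
    obtain ⟨x, hx⟩ := hx
    have := h x y w₁
    rw [hγ y w₁, hαy, mul_zero, zero_smul, hγ x y] at this
    exact hw₁ ((smul_eq_zero.1 this.symm).resolve_left (mul_ne_zero hβy hx))
  refine ⟨LinearMap.ext fun x => ?_, hC⟩
  simp only [hC, LinearMap.zero_apply, smul_zero] at h
  by_cases hab' : γ a b = 0
  · exact (smul_eq_zero.1 (h x b a)).resolve_left (fun e => hab (hab'.trans e.symm))
  · exact (smul_eq_zero.1 (h x a b)).resolve_left hab'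

/-- A space of at most three operators containing the identity and closed under composition has
a common eigenvector. -/
theorem exists_common_eigen [IsAlgClosed F] {Q : Type*} [AddCommGroup Q] [Module F Q]
    [FiniteDimensional F Q] [Nontrivial Q] (S : Submodule F (Module.End F Q))
    (hS : Module.finrank F S ≤ 3) (h1 : (1 : Module.End F Q) ∈ S)
    (hmul : ∀ a ∈ S, ∀ b ∈ S, a * b ∈ S) :
    ∃ q : Q, q ≠ 0 ∧ ∀ a ∈ S, ∃ c : F, a q = c • q := by
  suffices h : ∀ n, ∀ W : Submodule F Q, Module.finrank F W = n → W ≠ ⊥ →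
      (∀ a ∈ S, ∀ x ∈ W, a x ∈ W) → ∃ q : Q, q ≠ 0 ∧ ∀ a ∈ S, ∃ c : F, a q = c • q from
    h _ ⊤ rfl (by simp) fun _ _ _ _ => Submodule.mem_top
  intro n
  induction n using Nat.strong_induction_on with
  | _ n ih =>
  intro W hn hW hinv
  by_cases hsc : ∀ a ∈ S, ∃ c : F, ∀ x ∈ W, a x = c • x
  · obtain ⟨q, hq, hq0⟩ := Submodule.exists_mem_ne_zero_of_ne_bot hW
    exact ⟨q, hq0, fun a ha => (hsc a ha).imp fun c hc => hc q hq⟩
  push Not at hsc
  obtain ⟨a, ha, hsc⟩ := hsc
  have : Nontrivial W := Submodule.nontrivial_iff_ne_bot.2 hW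
  obtain ⟨c, hc⟩ := Module.End.exists_eigenvalue (a.restrict (hinv a ha))
  obtain ⟨⟨q, hqW⟩, hq⟩ := hc.exists_hasEigenvector
  have hq0 : q ≠ 0 := fun e => hq.2 (Subtype.ext e)
  have hqe : a q = c • q := congrArg Subtype.val hq.apply_eq_smul
  obtain ⟨x, hxW, hx⟩ := hsc c
  set a' := a - c • (1 : Module.End F Q) with ha'
  have ha'S : a' ∈ S := sub_mem ha (S.smul_mem _ h1)
  have ha'q : a' q = 0 := by simp [ha', hqe]
  have ha'x : a' x ≠ 0 := by simpa [ha', sub_eq_zero] using hx
  -- the orbit of the eigenvector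
  set ev : S →ₗ[F] Q := (LinearMap.applyₗ q).comp S.subtype with hev
  have hev' : ∀ b : S, ev b = b.1 q := fun b => rfl
  set W1 := LinearMap.range ev with hW1
  have hW1le : W1 ≤ W := by rintro _ ⟨b, rfl⟩; rw [hev']; exact hinv _ b.2 q hqW
  have hqW1 : q ∈ W1 := ⟨⟨1, h1⟩, by rw [hev']; rfl⟩
  have hW1inv : ∀ b ∈ S, ∀ y ∈ W1, b y ∈ W1 := by
    rintro b hb _ ⟨d, rfl⟩
    exact ⟨⟨b * d.1, hmul b hb _ d.2⟩, rfl⟩
  rcases hW1le.lt_or_eq with hlt | heq
  · exact ih _ (hn ▸ Submodule.finrank_lt_finrank_of_lt hlt) W1 rfl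
      (fun e => hq0 ((Submodule.mem_bot F).1 (e ▸ hqW1))) hW1inv
  have h2 : 2 ≤ Module.finrank F W := by
    by_contra h2
    have hspan : Submodule.span F {q} = W := Submodule.eq_of_le_of_finrank_le
      ((Submodule.span_singleton_le_iff_mem _ _).2 hqW)
      (by rw [finrank_span_singleton hq0]; omega)
    rw [← hspan, Submodule.mem_span_singleton] at hxW
    obtain ⟨r, rfl⟩ := hxW
    exact hx (by rw [map_smul, hqe, smul_comm])
  have hker : Module.finrank F (LinearMap.ker ev) ≤ 1 := by
    have := LinearMap.finrank_range_add_finrank_ker ev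
    rw [← hW1, heq] at this
    omega
  have hspan : Submodule.span F {(⟨a', ha'S⟩ : S)} = LinearMap.ker ev := by
    refine Submodule.eq_of_le_of_finrank_le ((Submodule.span_singleton_le_iff_mem _ _).2
      (by rw [LinearMap.mem_ker, hev']; exact ha'q)) ?_
    rw [finrank_span_singleton]
    · exact hker
    · exact fun e => ha'x (by rw [show a' = 0 from congrArg Subtype.val e]; rfl)
  refine ⟨a' x, ha'x, fun b hb => ?_⟩
  have hmem : (⟨b * a', hmul b hb _ ha'S⟩ : S) ∈ Submodule.span F {(⟨a', ha'S⟩ : S)} := by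
    rw [hspan, LinearMap.mem_ker, hev']
    show b (a' q) = 0
    rw [ha'q, map_zero]
  obtain ⟨r, hr⟩ := Submodule.mem_span_singleton.1 hmem
  refine ⟨r, ?_⟩
  exact (LinearMap.congr_fun (congrArg Subtype.val hr) x).symm

namespace Gr

variable {g : Gr F V Q2 Q3}

/-- Compression: one line contains all products with right factor in a plane. -/
theorem line_of_compression (hg : g.Comm)
    {p₁ p₂ z : V} (hsp : ∀ v : V, ∃ r s t : F, v = r • p₁ + s • p₂ + t • z) {c : Q2}
    (h₁ : ∀ x, g.mu x p₁ ∈ Submodule.span F {c}) (h₂ : ∀ x, g.mu x p₂ ∈ Submodule.span F {c}) :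
    g.Line := by
  -- move `z` so that its square is on the line
  obtain ⟨z, hsp, hzz⟩ : ∃ z, (∀ v : V, ∃ r s t : F, v = r • p₁ + s • p₂ + t • z) ∧
      g.mu z z ∈ Submodule.span F {c} := by
    have hzz : g.mu z z ∈ Submodule.span F ({c, g.mu p₁ z, g.mu p₂ z} : Set Q2) := by
      have hle : Submodule.span F {c} ≤ Submodule.span F ({c, g.mu p₁ z, g.mu p₂ z} : Set Q2) :=
        Submodule.span_mono (by simp)
      exact hg.mem_of_three hsp (sub_mem (hle (h₂ _)) (hle (h₁ _)))
        (sub_mem (Submodule.subset_span (by simp)) (hle (h₁ _)))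
        (sub_mem (Submodule.subset_span (by simp)) (hle (h₂ _))) _
    obtain ⟨e, w, hw, he⟩ := Submodule.mem_span_insert.1 hzz
    obtain ⟨a, b, rfl⟩ := Submodule.mem_span_pair.1 hw
    refine ⟨z - a • p₁ - b • p₂, fun v => ?_, ?_⟩
    · obtain ⟨r, s, t, rfl⟩ := hsp v
      exact ⟨r + t * a, s + t * b, t, by module⟩
    · have e1 : g.mu (z - a • p₁ - b • p₂) (z - a • p₁ - b • p₂) = e • c -
          (a • g.mu (z - a • p₁ - b • p₂) p₁ + b • g.mu (z - a • p₁ - b • p₂) p₂) := by
        simp only [map_sub, map_smul, LinearMap.sub_apply, LinearMap.smul_apply, he]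
        module
      rw [e1]
      exact sub_mem (Submodule.smul_mem _ _ (Submodule.mem_span_singleton_self c))
        (add_mem (Submodule.smul_mem _ _ (h₁ _)) (Submodule.smul_mem _ _ (h₂ _)))
  have hzV : ∀ w, g.mu z w ∈ Submodule.span F {c} := fun w => by
    obtain ⟨r, s, t, rfl⟩ := hsp w
    simp only [map_add, map_smul]
    exact add_mem (add_mem (Submodule.smul_mem _ _ (h₁ z)) (Submodule.smul_mem _ _ (h₂ z)))
      (Submodule.smul_mem _ _ hzz)
  -- the third layer is generated by the multiples of `c`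
  have gen : ∀ X : Q3, (∀ x, g.L x c ∈ Submodule.span F {X}) → g.R c z ∈ Submodule.span F {X} →
      g.Line := by
    intro X hA hC
    refine hg.line_of_mu (X := X) fun x y w => ?_
    have hl : ∀ m ∈ Submodule.span F {c}, g.L x m ∈ Submodule.span F {X} := fun m hm => by
      obtain ⟨r, rfl⟩ := Submodule.mem_span_singleton.1 hm
      rw [map_smul]; exact Submodule.smul_mem _ r (hA x)
    have hy : ∀ y, g.L x (g.mu y z) ∈ Submodule.span F {X} := fun y => by
      obtain ⟨r, s, t, rfl⟩ := hsp y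
      have hp : ∀ p, g.mu x p ∈ Submodule.span F {c} → g.L x (g.mu p z) ∈ Submodule.span F {X} :=
        fun p hp => by
          obtain ⟨u, hu⟩ := Submodule.mem_span_singleton.1 hp
          rw [g.assoc, ← hu, map_smul]; exact Submodule.smul_mem _ u hC
      simp only [map_add, map_smul, LinearMap.add_apply, LinearMap.smul_apply]
      exact add_mem (add_mem (Submodule.smul_mem _ _ (hp _ (h₁ x))) (Submodule.smul_mem _ _ (hp _ (h₂ x))))
        (Submodule.smul_mem _ _ (hl _ hzz))
    obtain ⟨r, s, t, rfl⟩ := hsp w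
    simp only [map_add, map_smul]
    exact add_mem (add_mem (Submodule.smul_mem _ _ (hl _ (h₁ y))) (Submodule.smul_mem _ _ (hl _ (h₂ y))))
      (Submodule.smul_mem _ _ (hy y))
  rcases eq_or_ne c 0 with rfl | hc0
  · exact gen 0 (by simp) (by simp)
  obtain ⟨φ₀, hφ₀⟩ := Module.Projective.exists_dual_ne_zero F hc0
  obtain ⟨φ, hφc⟩ : ∃ φ : Q2 →ₗ[F] F, φ c = 1 :=
    ⟨(φ₀ c)⁻¹ • φ₀, by simp [hφ₀]⟩
  have hmem : ∀ {m}, m ∈ Submodule.span F {c} → m = φ m • c := fun hm => by
    obtain ⟨r, rfl⟩ := Submodule.mem_span_singleton.1 hm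
    rw [map_smul, hφc, smul_eq_mul, mul_one]
  set γ : V →ₗ[F] V →ₗ[F] F := g.mu.compr₂ φ with hγ
  have hγ' : ∀ x y, γ x y = φ (g.mu x y) := fun x y => rfl
  -- associativity around a middle letter on the line
  have bal : ∀ x y w, g.mu x y ∈ Submodule.span F {c} → g.mu y w ∈ Submodule.span F {c} →
      γ y w • g.L x c = γ x y • g.R c w := fun x y w hxy hyw => by
    have := g.assoc x y w
    rw [hmem hxy, hmem hyw, map_smul, map_smul, LinearMap.smul_apply] at this
    exact this
  by_cases hP : g.mu p₁ p₂ - g.mu p₂ p₁ ≠ 0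
  · let π : F × F →ₗ[F] V :=
      (LinearMap.toSpanSingleton F V p₁).coprod (LinearMap.toSpanSingleton F V p₂)
    have hπ : ∀ u x, g.mu x (π u) ∈ Submodule.span F {c} := fun u x => by
      simp only [π, LinearMap.coprod_apply, LinearMap.toSpanSingleton_apply, map_add, map_smul]
      exact add_mem (Submodule.smul_mem _ _ (h₁ x)) (Submodule.smul_mem _ _ (h₂ x))
    have hd : γ p₁ p₂ - γ p₂ p₁ ≠ 0 := by
      intro e
      apply hP
      rw [hmem (h₂ p₁), hmem (h₁ p₂), ← sub_smul]
      rw [hγ', hγ'] at e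
      rw [e, zero_smul]
    obtain ⟨hA, hC⟩ := eq_zero_of_balanced (γ.compl₁₂ π π) ((g.L.flip c).comp π)
      ((g.R c).comp π) (a := ((1 : F), (0 : F))) (b := ((0 : F), (1 : F)))
      (by simpa [π] using sub_ne_zero.1 hd)
      (fun x y w => bal _ _ _ (hπ y _) (hπ w _))
    have hA1 : g.L p₁ c = 0 := by simpa [π] using LinearMap.congr_fun hA ((1 : F), (0 : F))
    have hA2 : g.L p₂ c = 0 := by simpa [π] using LinearMap.congr_fun hA ((0 : F), (1 : F))
    have hC1 : g.R c p₁ = 0 := by simpa [π] using LinearMap.congr_fun hC ((1 : F), (0 : F))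
    have hC2 : g.R c p₂ = 0 := by simpa [π] using LinearMap.congr_fun hC ((0 : F), (1 : F))
    have hAz : g.L z c = 0 := by
      have e : g.L z (g.mu p₁ p₂ - g.mu p₂ p₁) = 0 := by
        rw [map_sub, g.assoc, g.assoc, hmem (h₁ z), hmem (h₂ z)]
        simp [hC1, hC2]
      rw [hmem (h₂ p₁), hmem (h₁ p₂), ← sub_smul, map_smul] at e
      exact (smul_eq_zero.1 e).resolve_left hd
    refine gen (g.R c z) (fun x => ?_) (Submodule.mem_span_singleton_self _)
    obtain ⟨r, s, t, rfl⟩ := hsp x
    simp [hA1, hA2, hAz]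
  push Not at hP
  -- a combination of `p₁, p₂` with commutator `c`
  obtain ⟨a, b, hab⟩ : ∃ a b : F,
      a • (g.mu p₁ z - g.mu z p₁) + b • (g.mu p₂ z - g.mu z p₂) = c :=
    Submodule.mem_span_pair.1 (hg.mem_of_three hsp (hP ▸ Submodule.zero_mem _)
      (Submodule.subset_span (by simp)) (Submodule.subset_span (by simp)) c)
  set p₀ := a • p₁ + b • p₂ with hp₀
  have h0r : ∀ x, g.mu x p₀ ∈ Submodule.span F {c} := fun x => by
    simp only [hp₀, map_add, map_smul]
    exact add_mem (Submodule.smul_mem _ _ (h₁ x)) (Submodule.smul_mem _ _ (h₂ x))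
  have hc : g.mu p₀ z - g.mu z p₀ = c := by
    refine Eq.trans ?_ hab
    simp only [hp₀, map_add, map_smul, LinearMap.add_apply, LinearMap.smul_apply]
    module
  have h0z : g.mu p₀ z ∈ Submodule.span F {c} := by
    rw [show g.mu p₀ z = c + g.mu z p₀ by rw [← hc]; abel]
    exact add_mem (Submodule.mem_span_singleton_self c) (h0r z)
  have h0l : ∀ w, g.mu p₀ w ∈ Submodule.span F {c} := fun w => by
    obtain ⟨r, s, t, rfl⟩ := hsp w
    simp only [map_add, map_smul]
    exact add_mem (add_mem (Submodule.smul_mem _ _ (h₁ _)) (Submodule.smul_mem _ _ (h₂ _)))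
      (Submodule.smul_mem _ _ h0z)
  have hone : γ p₀ z - γ z p₀ = 1 := by rw [hγ', hγ', ← map_sub, hc, hφc]
  have b0 : ∀ x w, γ p₀ w • g.L x c = γ x p₀ • g.R c w := fun x w => bal x p₀ w (h0r x) (h0l w)
  by_cases h00 : γ p₀ p₀ = 0
  swap
  · have hA : ∀ x, g.L x c = ((γ p₀ p₀)⁻¹ * γ x p₀) • g.R c p₀ := fun x => by
      rw [mul_smul, ← b0 x p₀, smul_smul, inv_mul_cancel₀ h00, one_smul]
    refine gen (g.R c p₀) (fun x => hA x ▸ Submodule.smul_mem _ _ (Submodule.mem_span_singleton_self _)) ?_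
    rw [show g.R c z = ((γ p₀ p₀)⁻¹ * γ p₀ z) • g.L p₀ c by
      rw [mul_smul, b0 p₀ z, smul_smul, inv_mul_cancel₀ h00, one_smul], hA p₀]
    exact Submodule.smul_mem _ _ (Submodule.smul_mem _ _ (Submodule.mem_span_singleton_self _))
  by_cases hg' : γ p₀ z = 0
  · have hzp : γ z p₀ = -1 := by rw [hg'] at hone; linear_combination -hone
    have hcz : g.R c z = 0 := by
      have := b0 z z
      rw [hg', zero_smul, hzp] at this
      simpa using this.symm
    have hcp : g.R c p₀ = 0 := by
      have := b0 z p₀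
      rw [h00, zero_smul, hzp] at this
      simpa using this.symm
    have hzero : g.mu p₀ z = 0 := by rw [hmem h0z, ← hγ', hg', zero_smul]
    have hc' : c = -g.mu z p₀ := by rw [← hc, hzero, zero_sub]
    have hAz : g.L z c = 0 := by
      conv_lhs => rw [hc']
      rw [map_neg, g.assoc, hmem hzz, map_smul, LinearMap.smul_apply, hcp, smul_zero, neg_zero]
    have hA0 : g.L p₀ c = 0 := by
      conv_lhs => rw [hc']
      rw [map_neg, g.assoc, hzero, map_zero, LinearMap.zero_apply, neg_zero]
    have hA0' : a • g.L p₁ c + b • g.L p₂ c = 0 := by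
      rw [← hA0, hp₀]; simp
    rcases eq_or_ne a 0 with rfl | ha
    · have hb : b ≠ 0 := fun hb => hc0 (by rw [← hab, hb]; simp)
      have h2c : g.L p₂ c = 0 := by simpa [hb] using hA0'
      refine gen (g.L p₁ c) (fun x => ?_) (by rw [hcz]; exact Submodule.zero_mem _)
      obtain ⟨r, s, t, rfl⟩ := hsp x
      simp [h2c, hAz, Submodule.mem_span_singleton]
    · refine gen (g.L p₂ c) (fun x => ?_) (by rw [hcz]; exact Submodule.zero_mem _)
      obtain ⟨r, s, t, rfl⟩ := hsp x
      have h1c : g.L p₁ c = (-(a⁻¹ * b)) • g.L p₂ c := by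
        rw [neg_smul, mul_smul, eq_neg_iff_add_eq_zero,
          show g.L p₁ c = a⁻¹ • a • g.L p₁ c by rw [smul_smul, inv_mul_cancel₀ ha, one_smul],
          ← smul_add, hA0', smul_zero]
      simp only [map_add, map_smul, LinearMap.add_apply, LinearMap.smul_apply, hAz, h1c, smul_zero, add_zero]
      exact add_mem (Submodule.smul_mem _ _ (Submodule.smul_mem _ _ (Submodule.mem_span_singleton_self _)))
        (Submodule.smul_mem _ _ (Submodule.mem_span_singleton_self _))
  · by_cases hzp : γ z p₀ = 0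
    · have hgz : γ p₀ z = 1 := by rw [hzp, sub_zero] at hone; exact hone
      have hA : ∀ x, g.L x c = γ x p₀ • g.R c z := fun x => by rw [← b0 x z, hgz, one_smul]
      have hczero : g.mu z p₀ = 0 := by rw [hmem (h0r z), ← hγ', hzp, zero_smul]
      have hC : g.R c z = 0 := by
        conv_lhs => rw [← hc, hczero, sub_zero]
        rw [← g.assoc, hmem hzz, map_smul, hA, h00, zero_smul, smul_zero]
      exact gen 0 (fun x => by rw [hA, hC, smul_zero]; exact Submodule.zero_mem _)
        (by rw [hC]; exact Submodule.zero_mem _)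
    · refine gen (g.R c z) (fun x => ?_) (Submodule.mem_span_singleton_self _)
      rw [show g.L x c = ((γ p₀ z)⁻¹ * γ x p₀) • g.R c z by
        rw [mul_smul, ← b0 x z, smul_smul, inv_mul_cancel₀ hg', one_smul]]
      exact Submodule.smul_mem _ _ (Submodule.mem_span_singleton_self _)

/-- All right multiplications by `q` vanish and the second layer has dimension three. -/
theorem line_of_right_zero (hg : g.Comm) {q a b : V}
    (hsp : ∀ v : V, ∃ r s t : F, v = r • q + s • a + t • b) (hq : ∀ x, g.mu x q = 0)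
    (hc : g.mu a b - g.mu b a ∉ LinearMap.range (g.mu q)) : g.Line := by
  set c := g.mu a b - g.mu b a with hcdef
  obtain ⟨φ₀, hφ₀c, hφ₀⟩ := (LinearMap.range (g.mu q)).exists_dual_map_eq_bot_of_notMem hc inferInstance
  obtain ⟨φ, hφc, hφ⟩ : ∃ φ : Q2 →ₗ[F] F, φ c = 1 ∧ ∀ v, φ (g.mu q v) = 0 := by
    refine ⟨(φ₀ c)⁻¹ • φ₀, by simp [hφ₀c], fun v => ?_⟩
    have : φ₀ (g.mu q v) ∈ (LinearMap.range (g.mu q)).map φ₀ := Submodule.mem_map_of_mem ⟨v, rfl⟩
    rw [hφ₀, Submodule.mem_bot] at this
    simp [this]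
  -- every element is a multiple of `c` and a product with `q`
  have hdec : ∀ m, ∃ l, m = φ m • c + g.mu q l := fun m => by
    have hm : m - φ m • c ∈ LinearMap.range (g.mu q) := by
      have := hg.mem_of_three (S := LinearMap.range (g.mu q) ⊔ Submodule.span F {c}) hsp
        (by rw [hq, sub_zero]; exact Submodule.mem_sup_left ⟨a, rfl⟩)
        (by rw [hq, sub_zero]; exact Submodule.mem_sup_left ⟨b, rfl⟩)
        (Submodule.mem_sup_right (Submodule.mem_span_singleton_self c)) m
      obtain ⟨_, ⟨l, rfl⟩, _, hr, rfl⟩ := Submodule.mem_sup.1 this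
      obtain ⟨r, rfl⟩ := Submodule.mem_span_singleton.1 hr
      exact ⟨l, by simp [hφ, hφc]⟩
    obtain ⟨l, hl⟩ := hm
    exact ⟨l, by rw [hl]; abel⟩
  set γ : V →ₗ[F] V →ₗ[F] F := g.mu.compr₂ φ with hγ
  have hγ' : ∀ x y, γ x y = φ (g.mu x y) := fun x y => rfl
  have hLq : ∀ x l, g.L x (g.mu q l) = 0 := fun x l => by
    rw [g.assoc, hq, map_zero, LinearMap.zero_apply]
  have hLx : ∀ x y w, g.L x (g.mu y w) = γ y w • g.L x c := fun x y w => by
    obtain ⟨l, hl⟩ := hdec (g.mu y w)
    conv_lhs => rw [hl]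
    rw [map_add, map_smul, hLq, add_zero, hγ']
  set S := Submodule.span F {g.L q c} with hS
  obtain ⟨hA, -⟩ := eq_zero_of_balanced γ (S.mkQ.comp (g.L.flip c)) (S.mkQ.comp (g.R c))
    (a := a) (b := b) (fun e => by
      have : φ c = 0 := by rw [hcdef, map_sub, ← hγ', ← hγ', e, sub_self]
      rw [hφc] at this; exact one_ne_zero this)
    (fun x y w => by
      simp only [LinearMap.comp_apply, LinearMap.flip_apply]
      rw [← S.mkQ.map_smul, ← S.mkQ.map_smul]
      obtain ⟨l, hl⟩ := hdec (g.mu x y)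
      have h := g.assoc x y w
      rw [hLx, hl, map_add, map_smul, LinearMap.add_apply, LinearMap.smul_apply, ← g.assoc, hLx,
        ← hγ'] at h
      rw [Submodule.mkQ_apply, Submodule.mkQ_apply, Submodule.Quotient.eq, h, add_sub_cancel_left]
      exact Submodule.smul_mem _ _ (Submodule.mem_span_singleton_self _))
  refine hg.line_of_mu (X := g.L q c) fun x y w => ?_
  rw [hLx]
  refine Submodule.smul_mem _ _ ((Submodule.Quotient.mk_eq_zero S).1 ?_)
  exact LinearMap.congr_fun hA x

/-- A twisted exterior algebra. -/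
theorem line_of_skew (hg : g.Comm) (e : Fin 3 → V) (he : ∀ v, v ∈ Submodule.span F (Set.range e))
    (κ : V →ₗ[F] V) (hκ : Function.Surjective κ) (hskew : ∀ s, g.mu s (κ s) = 0) : g.Line := by
  let Φ : V → V → V → Q3 := fun a b c => g.L a (g.mu (κ b) (κ (κ c)))
  have h12 : ∀ a c, Φ a a c = 0 := fun a c => by
    simp [Φ, g.assoc, hskew]
  have h23 : ∀ a b, Φ a b b = 0 := fun a b => by simp [Φ, hskew]
  have a12 : ∀ a b c, Φ b a c = -Φ a b c := fun a b c => by
    have h := h12 (a + b) c
    have ha := h12 a c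
    have hb := h12 b c
    simp only [Φ, map_add, LinearMap.add_apply] at h ha hb ⊢
    rw [ha, hb, zero_add, add_zero] at h
    exact eq_neg_of_add_eq_zero_left h
  have a23 : ∀ a b c, Φ a c b = -Φ a b c := fun a b c => by
    have h := h23 a (b + c)
    have hb := h23 a b
    have hc := h23 a c
    simp only [Φ, map_add, LinearMap.add_apply] at h hb hc ⊢
    rw [hb, hc, zero_add, add_zero] at h
    exact eq_neg_of_add_eq_zero_left h
  have h13 : ∀ a b, Φ a b a = 0 := fun a b => by rw [a12, h23, neg_zero]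
  set X := Φ (e 0) (e 1) (e 2) with hX
  have hXX := Submodule.mem_span_singleton_self (R := F) X
  have hidx : ∀ i j k, Φ (e i) (e j) (e k) ∈ Submodule.span F {X} := by
    have m021 : Φ (e 0) (e 2) (e 1) ∈ Submodule.span F {X} := a23 (e 0) (e 1) (e 2) ▸ neg_mem hXX
    have m102 : Φ (e 1) (e 0) (e 2) ∈ Submodule.span F {X} := a12 (e 0) (e 1) (e 2) ▸ neg_mem hXX
    have m120 : Φ (e 1) (e 2) (e 0) ∈ Submodule.span F {X} := a23 (e 1) (e 0) (e 2) ▸ neg_mem m102
    have m201 : Φ (e 2) (e 0) (e 1) ∈ Submodule.span F {X} := a12 (e 0) (e 2) (e 1) ▸ neg_mem m021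
    have m210 : Φ (e 2) (e 1) (e 0) ∈ Submodule.span F {X} := a12 (e 1) (e 2) (e 0) ▸ neg_mem m120
    intro i j k
    fin_cases i <;> fin_cases j <;> fin_cases k <;>
      first
      | assumption
      | (rw [h12]; exact Submodule.zero_mem _)
      | (rw [h23]; exact Submodule.zero_mem _)
      | (rw [h13]; exact Submodule.zero_mem _)
  refine hg.line_of_mu (X := X) fun x y z => ?_
  obtain ⟨y, rfl⟩ := hκ y
  obtain ⟨z, rfl⟩ := hκ z
  obtain ⟨z, rfl⟩ := hκ z
  show Φ x y z ∈ _
  induction he x using Submodule.span_induction with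
  | mem x hx =>
    obtain ⟨i, rfl⟩ := hx
    induction he y using Submodule.span_induction with
    | mem y hy =>
      obtain ⟨j, rfl⟩ := hy
      induction he z using Submodule.span_induction with
      | mem z hz => obtain ⟨k, rfl⟩ := hz; exact hidx i j k
      | zero => simp [Φ]
      | add u v _ _ hu hv => simp only [Φ, map_add] at hu hv ⊢; exact add_mem hu hv
      | smul r u _ hu => simp only [Φ, map_smul] at hu ⊢; exact Submodule.smul_mem _ r hu
    | zero => simp [Φ]
    | add u v _ _ hu hv => simp only [Φ, map_add, LinearMap.add_apply] at hu hv ⊢; exact add_mem hu hv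
    | smul r u _ hu =>
      simp only [Φ, map_smul, LinearMap.smul_apply] at hu ⊢; exact Submodule.smul_mem _ r hu
  | zero => simp [Φ]
  | add u v _ _ hu hv => simp only [Φ, map_add, LinearMap.add_apply] at hu hv ⊢; exact add_mem hu hv
  | smul r u _ hu =>
    simp only [Φ, map_smul, LinearMap.smul_apply] at hu ⊢; exact Submodule.smul_mem _ r hu

end Gr

end CfsgLib.SmallCenter
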