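import Cfsg.Agent.Lib.Blocks.Brauer.SmallCenter.Central
import Cfsg.Agent.Lib.Blocks.Brauer.SmallCenter.Graded

/-!
# The layers of a nilpotent subalgebra
-/

set_option autoImplicit false

namespace CfsgLib.SmallCenter

variable {F A : Type*} [Field F] [Ring A] [Algebra F A] (J : Submodule F A)

/-- The commutators. -/
def comms : Submodule F A := Submodule.span F {x | ∃ a ∈ J, ∃ b ∈ J, x = a * b - b * a}

/-- The commutators with one entry in the square. -/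
def comms' : Submodule F A := Submodule.span F {x | ∃ a ∈ J, ∃ b ∈ J ^ 2, x = a * b - b * a}

/-- The quotient of consecutive powers. -/
abbrev layer (n : ℕ) : Submodule F (A ⧸ J ^ (n + 1)) := (J ^ n).map (J ^ (n + 1)).mkQ

variable {J}

/-- The class of an element in a layer. -/
def cls {n : ℕ} (a : A) (ha : a ∈ J ^ n) : layer J n := ⟨_, Submodule.mem_map_of_mem ha⟩

theorem cls_eq_zero {n : ℕ} {a : A} (ha : a ∈ J ^ n) : cls a ha = 0 ↔ a ∈ J ^ (n + 1) := by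
  rw [cls, ← Subtype.coe_inj]
  exact Submodule.Quotient.mk_eq_zero _

theorem exists_cls {n : ℕ} (m : layer J n) : ∃ a, ∃ ha : a ∈ J ^ n, m = cls a ha := by
  obtain ⟨_, a, ha, rfl⟩ := m
  exact ⟨a, ha, rfl⟩

variable {s : A →ₗ[F] F}

theorem comm_mem_sq {a b : A} (ha : a ∈ J) (hb : b ∈ J) : a * b - b * a ∈ J ^ 2 := by
  rw [pow_two]; exact sub_mem (Submodule.mul_mem_mul ha hb) (Submodule.mul_mem_mul hb ha)

theorem comm_mem_cube {a b : A} (ha : a ∈ J) (hb : b ∈ J ^ 2) : a * b - b * a ∈ J ^ 3 :=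
  sub_mem (mul_mem_pow (mem_pow_one.2 ha) hb) (mul_mem_pow hb (mem_pow_one.2 ha))

theorem comms_le_sq : comms J ≤ J ^ 2 :=
  Submodule.span_le.2 (by rintro _ ⟨a, ha, b, hb, rfl⟩; exact comm_mem_sq ha hb)

theorem comms'_le_cube : comms' J ≤ J ^ 3 :=
  Submodule.span_le.2 (by rintro _ ⟨a, ha, b, hb, rfl⟩; exact comm_mem_cube ha hb)

theorem comms'_le_comms (h : Rad J s) : comms' J ≤ comms J :=
  Submodule.span_le.2 (by
    rintro _ ⟨a, ha, b, hb, rfl⟩
    exact Submodule.subset_span ⟨a, ha, b, pow_le_rad h (by omega) hb, rfl⟩)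

theorem trace_comms (h : Rad J s) {z : A} (hz : z ∈ comms J) : s z = 0 := by
  induction hz using Submodule.span_induction with
  | mem x hx => obtain ⟨a, ha, b, hb, rfl⟩ := hx; rw [map_sub, h.comm a ha b hb, sub_self]
  | zero => exact map_zero s
  | add x y _ _ hx hy => rw [map_add, hx, hy, add_zero]
  | smul r x _ hx => rw [map_smul, hx, smul_zero]

/-- Commutators modulo those with an entry in the square come from generators. -/
theorem comms_le_gen (h : Rad J s) {ι : Type*} {x : ι → A} (hx : ∀ i, x i ∈ J)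
    (hgen : J ≤ Submodule.span F (Set.range x) ⊔ J ^ 2) :
    comms J ≤ Submodule.span F (Set.range fun ij : ι × ι => x ij.1 * x ij.2 - x ij.2 * x ij.1) ⊔
      comms' J := by
  rw [comms, Submodule.span_le]
  rintro _ ⟨a, ha, b, hb, rfl⟩
  obtain ⟨a₁, ha₁, a₂, ha₂, rfl⟩ := Submodule.mem_sup.1 (hgen ha)
  obtain ⟨b₁, hb₁, b₂, hb₂, rfl⟩ := Submodule.mem_sup.1 (hgen hb)
  have hspanJ : Submodule.span F (Set.range x) ≤ J :=
    Submodule.span_le.2 (by rintro _ ⟨i, rfl⟩; exact hx i)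
  rw [show (a₁ + a₂) * (b₁ + b₂) - (b₁ + b₂) * (a₁ + a₂) =
    (a₁ * b₁ - b₁ * a₁) + ((a₁ * b₂ - b₂ * a₁) - ((b₁ + b₂) * a₂ - a₂ * (b₁ + b₂))) by noncomm_ring]
  refine add_mem ?_ (Submodule.mem_sup_right (sub_mem (Submodule.subset_span ⟨a₁, hspanJ ha₁, b₂, hb₂, rfl⟩)
    (Submodule.subset_span ⟨b₁ + b₂, add_mem (hspanJ hb₁) (pow_le_rad h (by omega) hb₂), a₂, ha₂, rfl⟩)))
  refine Submodule.mem_sup_left ?_
  clear ha hb
  induction ha₁ using Submodule.span_induction with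
  | mem u hu =>
    induction hb₁ using Submodule.span_induction with
    | mem v hv =>
      obtain ⟨i, rfl⟩ := hu
      obtain ⟨j, rfl⟩ := hv
      exact Submodule.subset_span (Set.mem_range_self (f := fun ij : ι × ι =>
        x ij.1 * x ij.2 - x ij.2 * x ij.1) (i, j))
    | zero => simp
    | add p q _ _ hp hq =>
      rw [show u * (p + q) - (p + q) * u = (u * p - p * u) + (u * q - q * u) by noncomm_ring]
      exact add_mem hp hq
    | smul r p _ hp => rw [mul_smul_comm, smul_mul_assoc, ← smul_sub]; exact Submodule.smul_mem _ r hp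
  | zero => simp
  | add p q _ _ hp hq =>
    rw [show (p + q) * b₁ - b₁ * (p + q) = (p * b₁ - b₁ * p) + (q * b₁ - b₁ * q) by noncomm_ring]
    exact add_mem hp hq
  | smul r p _ hp => rw [mul_smul_comm, smul_mul_assoc, ← smul_sub]; exact Submodule.smul_mem _ r hp

variable [FiniteDimensional F A]

theorem finrank_layer (h : Rad J s) {n : ℕ} (hn : 1 ≤ n) :
    Module.finrank F (layer J n) + Module.finrank F (J ^ (n + 1) : Submodule F A) =
      Module.finrank F (J ^ n : Submodule F A) := by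
  have h1 := LinearMap.finrank_range_add_finrank_ker ((J ^ (n + 1)).mkQ ∘ₗ (J ^ n).subtype)
  rwa [LinearMap.range_comp, Submodule.range_subtype, LinearMap.ker_comp, Submodule.ker_mkQ,
    (Submodule.comapSubtypeEquivOfLe (pow_succ_le h hn)).finrank_eq] at h1

theorem exists_step {n : ℕ} {S : Submodule F (A ⧸ J ^ (n + 1))} (hle : layer J n ≤ S)
    (hS : Module.finrank F S ≤ 1) : ∃ w, J ^ n ≤ Submodule.span F {w} ⊔ J ^ (n + 1) := by
  obtain ⟨⟨X, hX⟩, hX'⟩ := finrank_le_one_iff.1 hS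
  obtain ⟨w, rfl⟩ := (J ^ (n + 1)).mkQ_surjective X
  refine ⟨w, fun a ha => ?_⟩
  obtain ⟨r, hr⟩ := hX' ⟨_, hle (Submodule.mem_map_of_mem ha)⟩
  have hr' : (J ^ (n + 1)).mkQ (a - r • w) = 0 := by
    rw [map_sub, map_smul, sub_eq_zero]
    exact (congrArg Subtype.val hr).symm
  exact Submodule.mem_sup.2 ⟨r • w, Submodule.smul_mem _ _ (Submodule.mem_span_singleton_self _), _,
    (Submodule.Quotient.mk_eq_zero _).1 hr', add_sub_cancel _ _⟩

theorem exists_lifts {n e : ℕ} (he : Module.finrank F (layer J n) = e) :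
    ∃ x : Fin e → A, (∀ i, x i ∈ J ^ n) ∧ J ^ n ≤ Submodule.span F (Set.range x) ⊔ J ^ (n + 1) := by
  let b := Module.finBasisOfFinrankEq F (layer J n) he
  choose x hx hbx using fun i => exists_cls (b i)
  refine ⟨x, hx, fun a ha => ?_⟩
  have h := b.sum_repr (cls a ha)
  have hm : (J ^ (n + 1)).mkQ (a - ∑ i, b.repr (cls a ha) i • x i) = 0 := by
    rw [map_sub, map_sum, sub_eq_zero]
    refine (congrArg Subtype.val h).symm.trans ?_
    simp [hbx, cls, map_smul]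
  exact Submodule.mem_sup.2 ⟨_, Submodule.sum_mem _ fun i _ =>
    Submodule.smul_mem _ (b.repr (cls a ha) i) (Submodule.subset_span ⟨i, rfl⟩), _,
    (Submodule.Quotient.mk_eq_zero _).1 hm, add_sub_cancel _ _⟩

omit [FiniteDimensional F A] in
/-- The first three layers as a graded algebra. -/
theorem exists_gr : ∃ g : Gr F (layer J 1) (layer J 2) (A ⧸ J ^ 4),
    (∀ a b (ha : a ∈ J ^ 1) (hb : b ∈ J ^ 1),
      g.mu (cls a ha) (cls b hb) = cls (a * b) (mul_mem_pow ha hb)) ∧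
    (∀ a m (ha : a ∈ J ^ 1) (hm : m ∈ J ^ 2), g.L (cls a ha) (cls m hm) = (J ^ 4).mkQ (a * m)) ∧
    ∀ a m (ha : a ∈ J ^ 1) (hm : m ∈ J ^ 2), g.R (cls m hm) (cls a ha) = (J ^ 4).mkQ (m * a) := by
  have hsec : ∀ n, ∃ sec : layer J n →ₗ[F] A, ∀ m, ∃ h : sec m ∈ J ^ n, cls (sec m) h = m := by
    intro n
    let f : (J ^ n : Submodule F A) →ₗ[F] layer J n :=
      LinearMap.codRestrict _ ((J ^ (n + 1)).mkQ ∘ₗ (J ^ n).subtype) fun a => Submodule.mem_map_of_mem a.2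
    have hf : Function.Surjective f := fun m => by
      obtain ⟨a, ha, rfl⟩ := exists_cls m
      exact ⟨⟨a, ha⟩, rfl⟩
    obtain ⟨r, hr⟩ := f.exists_rightInverse_of_surjective (LinearMap.range_eq_top.2 hf)
    exact ⟨(J ^ n).subtype ∘ₗ r, fun m => ⟨(r m).2, LinearMap.congr_fun hr m⟩⟩
  obtain ⟨σ₁, hσ₁⟩ := hsec 1
  obtain ⟨σ₂, hσ₂⟩ := hsec 2
  have hdiff : ∀ {n : ℕ} {σ : layer J n →ₗ[F] A} (_ : ∀ m, ∃ h : σ m ∈ J ^ n, cls (σ m) h = m)
      (a : A) (ha : a ∈ J ^ n), σ (cls a ha) - a ∈ J ^ (n + 1) := by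
    intro n σ hσ a ha
    obtain ⟨_, h⟩ := hσ (cls a ha)
    exact (Submodule.Quotient.eq _).1 (congrArg Subtype.val h)
  have hmul : ∀ {i j k : ℕ} {a a' b b' : A}, i + j + 1 = k → a ∈ J ^ i → b' ∈ J ^ j →
      a - a' ∈ J ^ (i + 1) → b - b' ∈ J ^ (j + 1) → (J ^ k).mkQ (a * b) = (J ^ k).mkQ (a' * b') := by
    intro i j k a a' b b' hk ha hb' h1 h2
    subst hk
    refine (Submodule.Quotient.eq _).2 ?_
    rw [show a * b - a' * b' = a * (b - b') + (a - a') * b' by noncomm_ring]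
    refine add_mem ?_ ?_
    · rw [add_assoc]; exact mul_mem_pow ha h2
    · rw [show i + j + 1 = (i + 1) + j by omega]; exact mul_mem_pow h1 hb'
  let mu : layer J 1 →ₗ[F] layer J 1 →ₗ[F] layer J 2 :=
    LinearMap.mk₂ F (fun u v => cls (σ₁ u * σ₁ v) (mul_mem_pow (hσ₁ u).choose (hσ₁ v).choose))
      (fun a b c => Subtype.ext (by simp [cls, add_mul]))
      (fun r a b => Subtype.ext (by simp [cls]))
      (fun a b c => Subtype.ext (by simp [cls, mul_add]))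
      (fun r a b => Subtype.ext (by simp [cls]))
  let L : layer J 1 →ₗ[F] layer J 2 →ₗ[F] A ⧸ J ^ 4 :=
    ((LinearMap.mul F A).compl₁₂ σ₁ σ₂).compr₂ (J ^ 4).mkQ
  let R : layer J 2 →ₗ[F] layer J 1 →ₗ[F] A ⧸ J ^ 4 :=
    ((LinearMap.mul F A).compl₁₂ σ₂ σ₁).compr₂ (J ^ 4).mkQ
  have hmu : ∀ a b (ha : a ∈ J ^ 1) (hb : b ∈ J ^ 1),
      mu (cls a ha) (cls b hb) = cls (a * b) (mul_mem_pow ha hb) := fun a b ha hb => Subtype.ext <| by
    exact hmul (k := 3) rfl (hσ₁ _).choose hb (hdiff hσ₁ a ha) (hdiff hσ₁ b hb)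
  have hL : ∀ a m (ha : a ∈ J ^ 1) (hm : m ∈ J ^ 2), L (cls a ha) (cls m hm) = (J ^ 4).mkQ (a * m) :=
    fun a m ha hm => hmul (k := 4) rfl (hσ₁ _).choose hm (hdiff hσ₁ a ha) (hdiff hσ₂ m hm)
  have hR : ∀ a m (ha : a ∈ J ^ 1) (hm : m ∈ J ^ 2), R (cls m hm) (cls a ha) = (J ^ 4).mkQ (m * a) :=
    fun a m ha hm => hmul (k := 4) rfl (hσ₂ _).choose ha (hdiff hσ₂ m hm) (hdiff hσ₁ a ha)
  refine ⟨⟨mu, L, R, fun u v w => ?_⟩, hmu, hL, hR⟩
  obtain ⟨a, ha, rfl⟩ := exists_cls u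
  obtain ⟨b, hb, rfl⟩ := exists_cls v
  obtain ⟨c, hc, rfl⟩ := exists_cls w
  rw [hmu, hmu, hL, hR, mul_assoc]

end CfsgLib.SmallCenter
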